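/-
Modules of a group seen from a subgroup whose relevant algebra is uniserial: setting and traces.
-/
import Cfsg.Agent.Lib.BlockAlg.UniserialCorner
import Cfsg.Agent.Lib.BlockAlg.Pieces
import Cfsg.Agent.Lib.BrauerPairs.Concrete

set_option linter.unusedSectionVars false
set_option linter.style.haveILetI false

namespace Cfsg.Agent.Stable

open MonoidAlgebra Cfsg.Agent.Blocks Cfsg.Agent.BrauerPairs Cfsg.Agent.BlockAlg
open scoped Classical

universe u v

variable {G : Type u} [Group G] [Fintype G] {k : Type} [Field k]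

/-- The algebra of a subgroup in the group algebra. -/
noncomputable def em (C : Subgroup G) : MonoidAlgebra k C →ₐ[k] MonoidAlgebra k G :=
  MonoidAlgebra.mapDomainAlgHom k k C.subtype

theorem em_single (C : Subgroup G) (c : C) (a : k) :
    em C (MonoidAlgebra.single c a) = MonoidAlgebra.single (c : G) a := by
  simp [em]

theorem em_eq_emb (C : Subgroup G) (x : MonoidAlgebra k C) : em C x = emb C x := rfl

/-- A group element in the group algebra. -/
noncomputable def sg (k : Type) [Field k] (g : G) : MonoidAlgebra k G := MonoidAlgebra.single g 1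

theorem sg_mul (g h : G) : sg k (g * h) = sg k g * sg k h := by
  simp [sg, MonoidAlgebra.single_mul_single]

theorem sg_one : sg k (1 : G) = 1 := by simp [sg, MonoidAlgebra.one_def]

theorem cj_sg (g h : G) : cj g (sg k h) = sg k (g * h * g⁻¹) := by
  simp [cj, sg, MulAut.conj_apply]

theorem cj_eq_conj (g : G) (a : MonoidAlgebra k G) : cj g a = sg k g * a * sg k g⁻¹ := by
  classical
  conv_lhs => rw [← sum_coeff_single' a]
  conv_rhs => rw [← sum_coeff_single' a]
  simp only [map_sum, map_smul, Finset.mul_sum, Finset.sum_mul, mul_smul_comm, smul_mul_assoc]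
  refine Finset.sum_congr rfl fun h _ => ?_
  congr 1
  change cj g (sg k h) = sg k g * sg k h * sg k g⁻¹
  rw [cj_sg, sg_mul, sg_mul]

/-- The setting: a subgroup with uniserial algebra, the stabiliser of its idempotent, the normaliser
and a subgroup relative to which the algebra is projective. -/
structure Data (k : Type) [Field k] {G : Type u} [Group G] [Fintype G] (C1 : Subgroup G)
    (f : ℕ) where
  U : Uniserial k (MonoidAlgebra k C1) f
  two_le : 2 ≤ U.N
  H0 : Subgroup G
  N0 : Subgroup G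
  P : Subgroup G
  le_H0 : C1 ≤ H0
  H0_le : H0 ≤ N0
  P_le : P ≤ C1
  conj_mem : ∀ g ∈ N0, ∀ c ∈ C1, g * c * g⁻¹ ∈ C1
  free : ∀ g, g ∉ N0 → ∀ u ∈ P, u ≠ 1 → g⁻¹ * u * g ∉ P
  cj_ε : ∀ h ∈ H0, cj h (em C1 U.ε) = em C1 U.ε
  cj_η : ∀ h ∈ H0, ∃ y, cj h (em C1 U.η) = em C1 (U.η * y)
  orth : ∀ g ∈ N0, g ∉ H0 → em C1 U.ε * cj g (em C1 U.ε) = 0
  s : C1
  hs : P.subgroupOf C1 ≤ Subgroup.centralizer ({s} : Set C1)
  idx_ne : (((P.subgroupOf C1).relIndex (Subgroup.centralizer ({s} : Set C1)) : ℕ) : k) ≠ 0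
  c : k
  c_ne : c ≠ 0
  hK : IsNilpotent ((classSum k s - c • 1) * U.ε)
  e_ne : ((C1.relIndex H0 : ℕ) : k) ≠ 0

variable {C1 : Subgroup G} {f : ℕ} (D : Data k C1 f) {V : Type v} [AddCommGroup V] [Module k V]
  (r : MonoidAlgebra k G →ₐ[k] Module.End k V)

/-- The restriction of a representation. -/
noncomputable def rc (C1 : Subgroup G) (r : MonoidAlgebra k G →ₐ[k] Module.End k V) :
    MonoidAlgebra k C1 →ₐ[k] Module.End k V := r.comp (em C1)

theorem rc_apply (x : MonoidAlgebra k C1) : rc C1 r x = r (em C1 x) := rfl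

/-- The action of a group element. -/
noncomputable def rg (r : MonoidAlgebra k G →ₐ[k] Module.End k V) (g : G) : Module.End k V :=
  r (sg k g)

theorem rg_mul (g h : G) : rg r (g * h) = rg r g * rg r h := by simp [rg, sg_mul]

theorem rg_one : rg r (1 : G) = 1 := by simp [rg, sg_one]

theorem rc_single (c : C1) : rc C1 r (MonoidAlgebra.single c 1) = rg r (c : G) := by
  simp [rc_apply, em_single, rg, sg]

theorem rg_cancel (g : G) (v : V) : rg r g⁻¹ (rg r g v) = v := by
  rw [← Module.End.mul_apply, ← rg_mul, inv_mul_cancel, rg_one, Module.End.one_apply]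

theorem r_cj (g : G) (a : MonoidAlgebra k G) : r (cj g a) = rg r g * r a * rg r g⁻¹ := by
  simp [cj_eq_conj, rg]

theorem r_cj_mul (g : G) (a : MonoidAlgebra k G) : r (cj g a) * rg r g = rg r g * r a := by
  rw [r_cj, mul_assoc, ← rg_mul, inv_mul_cancel, rg_one, mul_one]

theorem commute_rc {E : Module.End k V} (hE : ∀ c ∈ C1, Commute E (rg r c))
    (x : MonoidAlgebra k C1) : Commute E (rc C1 r x) := by
  rw [← sum_coeff_single' x, map_sum]
  refine Commute.sum_right _ _ _ fun c _ => ?_
  rw [map_smul, rc_single]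
  exact (hE c c.2).smul_right _

/-- Conjugation of an endomorphism by a group element. -/
noncomputable def cnj (g : G) (γ : Module.End k V) : Module.End k V := rg r g * γ * rg r g⁻¹

theorem cnj_cnj (g h : G) (γ : Module.End k V) : cnj r g (cnj r h γ) = cnj r (g * h) γ := by
  simp only [cnj, rg_mul, _root_.mul_inv_rev, mul_assoc]

theorem cnj_out {P : Subgroup G} {γ : Module.End k V} (hγ : ∀ u ∈ P, Commute γ (rg r u)) (g : G) :
    cnj r (QuotientGroup.mk g : G ⧸ P).out γ = cnj r g γ := by
  obtain ⟨u, hu⟩ := QuotientGroup.mk_out_eq_mul P g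
  rw [hu, ← cnj_cnj]
  congr 1
  rw [cnj, ← (hγ u u.2).eq, mul_assoc, ← rg_mul, mul_inv_cancel, rg_one, mul_one]

/-- Endomorphisms of the local part are traces from the subgroup. -/
theorem exists_trace {E : Module.End k V} (hE : ∀ c ∈ C1, Commute E (rg r c))
    (hEε : E * rc C1 r D.U.ε = E) :
    ∃ γ : Module.End k V, (∀ u ∈ D.P, Commute γ (rg r u)) ∧
      rc C1 r D.U.ε * γ = γ ∧ γ * rc C1 r D.U.ε = γ ∧
      ∑ x : C1 ⧸ D.P.subgroupOf C1, cnj r ((x.out : C1) : G) γ = E := by
  classical
  set π := rc C1 r D.U.ε with hπ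
  set idx := (D.P.subgroupOf C1).relIndex (Subgroup.centralizer ({D.s} : Set C1)) with hidx
  let K := classSum k D.s
  let m := rc C1 r ((K - D.c • 1) * D.U.ε)
  have hKc : ∀ x : MonoidAlgebra k C1, Commute K x := fun x => by
    rw [← sum_coeff_single' x]
    refine Commute.sum_right _ _ _ fun g _ => ?_
    exact (show Commute K (MonoidAlgebra.single g 1) from classSum_mul_single D.s g).smul_right _
  have hmc : ∀ x, Commute m (rc C1 r x) := fun x =>
    ((((hKc x).sub_left ((Commute.one_left x).smul_left D.c)).mul_left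
      (show Commute D.U.ε x from D.U.ε_comm x))).map (rc C1 r)
  have hun : IsUnit (D.c • (1 : Module.End k V) + m) :=
    (D.hK.map (rc C1 r)).isUnit_add_left_of_commute
      (by rw [← Algebra.algebraMap_eq_smul_one]; exact (isUnit_iff_ne_zero.2 D.c_ne).map _)
      (Commute.smul_right (Commute.one_right _) D.c)
  obtain ⟨w, hw⟩ := hun
  have hwc : ∀ x, Commute (↑w⁻¹ : Module.End k V) (rc C1 r x) := fun x => by
    refine Commute.units_inv_left ?_
    rw [hw]
    exact ((Commute.one_left _).smul_left _).add_left (hmc x)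
  have hwg : ∀ c ∈ C1, Commute (↑w⁻¹ : Module.End k V) (rg r c) := fun c hc => by
    simpa [rc_single] using hwc (MonoidAlgebra.single (⟨c, hc⟩ : C1) 1)
  have hπg : ∀ c ∈ C1, Commute π (rg r c) := fun c hc => by
    have := (show Commute D.U.ε (MonoidAlgebra.single (⟨c, hc⟩ : C1) 1) from D.U.ε_comm _).map
      (rc C1 r)
    rwa [rc_single] at this
  set X := E * (↑w⁻¹ : Module.End k V) with hX
  have hXg : ∀ c ∈ C1, Commute X (rg r c) := fun c hc => (hE c hc).mul_left (hwg c hc)
  have hXπ : X * π = X ∧ π * X = X := by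
    refine ⟨?_, ?_⟩
    · rw [hX, mul_assoc, (hwc _).eq, ← mul_assoc, hEε]
    · rw [← (commute_rc r hXg D.U.ε).eq]
      rw [hX, mul_assoc, (hwc _).eq, ← mul_assoc, hEε]
  refine ⟨(idx : k)⁻¹ • (rg r (D.s : G) * X), fun u hu => ?_, ?_, ?_, ?_⟩
  · refine Commute.smul_left (Commute.mul_left ?_ (hXg u (D.P_le hu))) _
    show rg r (D.s : G) * rg r u = rg r u * rg r (D.s : G)
    have h := Subgroup.mem_centralizer_singleton_iff.1
      (D.hs (Subgroup.mem_subgroupOf.2 (show ((⟨u, D.P_le hu⟩ : C1) : G) ∈ D.P from hu)))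
    have h' : u * (D.s : G) = (D.s : G) * u := congrArg Subtype.val h
    rw [← rg_mul, ← rg_mul, h']
  · rw [mul_smul_comm, ← mul_assoc, (hπg _ D.s.2).eq, mul_assoc, hXπ.2]
  · rw [smul_mul_assoc, mul_assoc, hXπ.1]
  · have e : ∀ x : C1 ⧸ D.P.subgroupOf C1,
        cnj r ((x.out : C1) : G) ((idx : k)⁻¹ • (rg r (D.s : G) * X)) =
          (idx : k)⁻¹ • (rc C1 r (MonoidAlgebra.single (x.out * D.s * x.out⁻¹) 1) * X) := by
      intro x
      rw [cnj, mul_smul_comm, smul_mul_assoc, rc_single]
      congr 1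
      rw [mul_assoc (rg r _), mul_assoc (rg r _) X, (hXg _ (inv_mem x.out.2)).eq]
      simp only [Subgroup.coe_mul, InvMemClass.coe_inv, rg_mul, mul_assoc]
    rw [Finset.sum_congr rfl fun x _ => e x, ← Finset.smul_sum, ← Finset.sum_mul, ← map_sum,
      sum_quotient_conj D.hs, map_nsmul, smul_mul_assoc, ← Nat.cast_smul_eq_nsmul k, smul_smul,
      inv_mul_cancel₀ D.idx_ne, one_smul]
    have h1 : rc C1 r K * X * (↑w : Module.End k V) = E * (↑w : Module.End k V) := by
      rw [hw, hX, mul_assoc, mul_assoc, show (↑w⁻¹ : Module.End k V) * (D.c • 1 + m) = 1 by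
        rw [← hw, Units.inv_mul], mul_one, mul_add, mul_smul_comm, mul_one]
      have hm : m = rc C1 r K * π - D.c • π := by
        simp [m, hπ, sub_mul]
      rw [hm, mul_sub, mul_smul_comm, hEε, add_sub_cancel, ← mul_assoc,
        (commute_rc r hE K).eq, mul_assoc, hEε]
    exact (Units.isUnit w).mul_right_cancel h1

/-- Traces from the trivial subgroup map the socle into the last layer. -/
theorem trace_one_mem [FiniteDimensional k V] (Y : Module.End k V) {v : V}
    (hv : rc C1 r D.U.ε v = v) (hη : rc C1 r D.U.η v = 0) :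
    (∑ c : C1, cnj r (c : G) Y) v ∈ LinearMap.range (rc C1 r (D.U.η ^ (D.U.N - 1))) := by
  classical
  let b := Module.finBasis k V
  let L : Fin (Module.finrank k V) → V →ₗ[k] MonoidAlgebra k C1 := fun i =>
    ∑ c : C1, LinearMap.smulRight ((b.coord i).comp (rg r (c : G)⁻¹))
      (MonoidAlgebra.single c (1 : k))
  have hL : ∀ i v, L i v = ∑ c : C1, b.coord i (rg r (c : G)⁻¹ v) • MonoidAlgebra.single c 1 :=
    fun i v => by simp [L, LinearMap.sum_apply]
  have hLx : ∀ i (x : MonoidAlgebra k C1) v, L i (rc C1 r x v) = x * L i v := by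
    intro i x v
    conv_rhs => rw [← sum_coeff_single' x]
    conv_lhs => rw [← sum_coeff_single' x]
    simp only [map_sum, map_smul, LinearMap.sum_apply, LinearMap.smul_apply, Finset.sum_mul,
      smul_mul_assoc, rc_single]
    refine Finset.sum_congr rfl fun d _ => ?_
    congr 1
    rw [hL, hL, Finset.mul_sum]
    refine (Fintype.sum_equiv (Equiv.mulLeft d) _ _ fun c => ?_).symm
    rw [mul_smul_comm, MonoidAlgebra.single_mul_single, one_mul, Equiv.coe_mulLeft, Subgroup.coe_mul,
      _root_.mul_inv_rev, rg_mul, Module.End.mul_apply, rg_cancel]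
  have hmem : ∀ i, ∃ y, L i v = D.U.η ^ (D.U.N - 1) * y := by
    intro i
    refine D.U.exists_eq_pow_mul ?_ ?_
    · rw [← D.U.ε_comm, ← hLx, hv]
    · rw [← hLx, hη, map_zero]
  have hsum : (∑ c : C1, cnj r (c : G) Y) v = ∑ i, rc C1 r (L i v) (Y (b i)) := by
    simp only [hL, map_sum, map_smul, LinearMap.sum_apply, LinearMap.smul_apply, rc_single]
    rw [Finset.sum_comm]
    refine Finset.sum_congr rfl fun c _ => ?_
    conv_lhs => rw [cnj, Module.End.mul_apply, Module.End.mul_apply,
      ← b.sum_repr (rg r (c : G)⁻¹ v)]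
    simp only [map_sum, map_smul, Module.Basis.coord_apply]
  rw [hsum]
  refine Submodule.sum_mem _ fun i _ => ?_
  obtain ⟨y, hy⟩ := hmem i
  exact ⟨rc C1 r y (Y (b i)), by rw [hy, map_mul, Module.End.mul_apply]⟩

end Cfsg.Agent.Stable
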