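/-
Extensions of the simple module of the local algebra to the stabiliser.
-/
import Cfsg.Agent.Lib.Stable.Basic
import Mathlib.RingTheory.RootsOfUnity.AlgebraicallyClosed

set_option linter.unusedSectionVars false
set_option linter.style.haveILetI false

namespace Cfsg.Agent.Stable

open MonoidAlgebra Cfsg.Agent.Blocks Cfsg.Agent.BrauerPairs Cfsg.Agent.BlockAlg
open scoped Classical Matrix

universe u

variable {G : Type u} [Group G] [Fintype G]

/-- Extension of a representation over a cyclic quotient. -/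
theorem exists_ext {R : Type*} [Monoid R] {H C : Subgroup G} (hCH : C ≤ H) {g0 : G} (hg0 : g0 ∈ H)
    {e : ℕ} (hgen : ∀ h ∈ H, ∃ n : ℤ, (g0 ^ n)⁻¹ * h ∈ C)
    (hord : ∀ n : ℤ, g0 ^ n ∈ C → (e : ℤ) ∣ n) (hnorm : ∀ h ∈ H, ∀ c ∈ C, h * c * h⁻¹ ∈ C)
    (φ : C →* Rˣ) (hge : g0 ^ e ∈ C) (U : Rˣ) (hUe : U ^ e = φ ⟨g0 ^ e, hge⟩)
    (hUc : ∀ c c' : C, (c' : G) = g0 * c * g0⁻¹ → U * φ c * U⁻¹ = φ c') :
    ∃ ρ : H →* R, ρ ⟨g0, hg0⟩ = U ∧ ∀ c : C, ρ ⟨c, hCH c.2⟩ = φ c := by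
  have hz : ∀ (n : ℤ) (c c' : C), (c' : G) = g0 ^ n * c * (g0 ^ n)⁻¹ →
      U ^ n * φ c * (U ^ n)⁻¹ = φ c' := by
    intro n
    induction n using Int.induction_on with
    | zero =>
      intro c c' h
      simp only [zpow_zero, one_mul, inv_one, mul_one] at h ⊢
      rw [Subtype.ext h]
    | succ m ih =>
      intro c c' h
      let d : C := ⟨g0 * c * g0⁻¹, hnorm _ hg0 _ c.2⟩
      have h1 : (c' : G) = g0 ^ (m : ℤ) * d * (g0 ^ (m : ℤ))⁻¹ := by
        rw [h, zpow_add_one]; simp only [d, _root_.mul_inv_rev, mul_assoc]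
      rw [← ih d c' h1, ← hUc c d rfl, zpow_add_one]
      simp only [_root_.mul_inv_rev, mul_assoc]
    | pred m ih =>
      intro c c' h
      let d : C := ⟨g0⁻¹ * c * g0, by simpa using hnorm _ (inv_mem hg0) _ c.2⟩
      have h1 : (c' : G) = g0 ^ (-(m : ℤ)) * d * (g0 ^ (-(m : ℤ)))⁻¹ := by
        rw [h, zpow_sub_one]; simp only [d, _root_.mul_inv_rev, inv_inv, mul_assoc]
      have h2 := hUc d c (by simp [d, mul_assoc])
      rw [← ih d c' h1, ← h2, zpow_sub_one]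
      simp only [_root_.mul_inv_rev, inv_inv, mul_assoc, inv_mul_cancel_left, inv_mul_cancel,
        mul_one]
  have hwd : ∀ (n m : ℤ) (c d : C), g0 ^ n * (c : G) = g0 ^ m * (d : G) →
      U ^ n * φ c = U ^ m * φ d := by
    intro n m c d h
    have h1 : g0 ^ (-m + n) = (d : G) * (c : G)⁻¹ := by
      rw [zpow_add, zpow_neg, eq_mul_inv_iff_mul_eq, mul_assoc, h, inv_mul_cancel_left]
    obtain ⟨j, hj⟩ := hord (-m + n) (h1 ▸ mul_mem d.2 (inv_mem c.2))
    have h2 : U ^ (-m + n) = φ (d * c⁻¹) := by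
      rw [hj, zpow_mul, zpow_natCast, hUe, ← map_zpow]
      congr 1
      refine Subtype.ext ?_
      rw [SubgroupClass.coe_zpow, Subgroup.coe_mul, InvMemClass.coe_inv, ← h1, hj, zpow_mul,
        zpow_natCast]
    calc U ^ n * φ c = U ^ m * (U ^ (-m + n) * φ c) := by
          rw [← mul_assoc, ← zpow_add, add_neg_cancel_left]
      _ = U ^ m * φ d := by rw [h2, ← map_mul, inv_mul_cancel_right]
  choose n hn using fun h : H => hgen h h.2
  let ρu : H → Rˣ := fun h => U ^ n h * φ ⟨_, hn h⟩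
  have hρ : ∀ (h : H) (m : ℤ) (c : C), (h : G) = g0 ^ m * c → ρu h = U ^ m * φ c := fun h m c e =>
    hwd _ _ _ _ (by rw [mul_inv_cancel_left]; exact e)
  have hspl : ∀ h : H, (h : G) = g0 ^ n h * ((g0 ^ n h)⁻¹ * h) := fun h => by
    rw [mul_inv_cancel_left]
  have hmul : ∀ a b : H, ρu (a * b) = ρu a * ρu b := by
    intro a b
    let c : C := ⟨_, hn a⟩
    let d : C := ⟨_, hn b⟩
    let c' : C := ⟨(g0 ^ n b)⁻¹ * c * g0 ^ n b, by
      simpa using hnorm _ (inv_mem (zpow_mem hg0 (n b))) _ c.2⟩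
    rw [hρ (a * b) (n a + n b) (c' * d) (by
      rw [Subgroup.coe_mul, Subgroup.coe_mul, zpow_add]
      simp only [c', c, d, mul_assoc, mul_inv_cancel_left]),
      hρ a (n a) c (hspl a), hρ b (n b) d (hspl b), map_mul, zpow_add,
      ← hz (n b) c' c (by simp [c', mul_assoc])]
    simp only [mul_assoc, inv_mul_cancel_left]
  let ρ' : H →* Rˣ := MonoidHom.mk' ρu hmul
  refine ⟨(Units.coeHom R).comp ρ', ?_, fun c => ?_⟩
  · show ((ρu _ : Rˣ) : R) = _
    rw [hρ ⟨g0, hg0⟩ 1 1 (by simp), zpow_one, map_one, mul_one]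
  · show ((ρu _ : Rˣ) : R) = _
    rw [hρ ⟨(c : G), hCH c.2⟩ 0 c (by simp), zpow_zero, one_mul]

variable {k : Type} [Field k] {C1 : Subgroup G} {f : ℕ} (D : Data k C1 f)

/-- The extensions of the simple module to the stabiliser. -/
theorem exists_family [IsAlgClosed k] {g0 : G} (hg0 : g0 ∈ D.H0) {e : ℕ} (he : (e : k) ≠ 0)
    (hgen : ∀ h ∈ D.H0, ∃ n : ℤ, (g0 ^ n)⁻¹ * h ∈ C1) (hge : g0 ^ e ∈ C1)
    (hord : ∀ n : ℤ, g0 ^ n ∈ C1 → (e : ℤ) ∣ n) :
    ∃ (ρ : Fin e → D.H0 →* Matrix (Fin f) (Fin f) k) (U0 U1 : Matrix (Fin f) (Fin f) k)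
      (a : Fin e → k), U0 * U1 = 1 ∧ Function.Injective a ∧
        (∀ i, ρ i ⟨g0, hg0⟩ = a i • U0) ∧
        ∀ (i : Fin e) (c : C1), ρ i ⟨c, D.le_H0 c.2⟩ = D.U.F (MonoidAlgebra.single c 1) := by
  haveI : Nonempty (Fin f) := ⟨D.U.o⟩
  have hN : ∀ h ∈ D.H0, ∀ c ∈ C1, h * c * h⁻¹ ∈ C1 := fun h hh => D.conj_mem h (D.H0_le hh)
  let φg : C1 →* C1 := MonoidHom.mk' (fun c => ⟨g0 * c * g0⁻¹, hN _ hg0 _ c.2⟩) fun a b =>
    Subtype.ext (by simp [mul_assoc])
  let m : MonoidAlgebra k C1 →ₐ[k] MonoidAlgebra k C1 := MonoidAlgebra.mapDomainAlgHom k k φg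
  have hm1 : ∀ c, m (MonoidAlgebra.single c 1) = MonoidAlgebra.single (φg c) 1 := fun c => by
    simp [m]
  have hem : ∀ x, em C1 (m x) = cj g0 (em C1 x) := by
    intro x
    rw [← sum_coeff_single' x]
    simp only [map_sum, map_smul]
    refine Finset.sum_congr rfl fun c _ => ?_
    congr 1
    simp only [hm1, em_single]
    exact (cj_sg g0 (c : G)).symm
  have hinj : Function.Injective (em (k := k) C1) := emb_injective C1
  let F' := D.U.F.comp m
  have hF'ε : F' D.U.ε = 1 := by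
    show D.U.F (m D.U.ε) = 1
    rw [show m D.U.ε = D.U.ε from hinj (by rw [hem, D.cj_ε _ hg0]), D.U.F_ε]
  have hF'η : F' D.U.η = 0 := by
    obtain ⟨y, hy⟩ := D.cj_η _ hg0
    show D.U.F (m D.U.η) = 0
    rw [show m D.U.η = D.U.η * y from hinj (by rw [hem, hy]), map_mul, D.U.F_η, zero_mul]
  let r' : MonoidAlgebra k C1 →ₐ[k] Module.End k (Fin f → k) :=
    (Matrix.toLinAlgEquiv' : Matrix (Fin f) (Fin f) k ≃ₐ[k] _).toAlgHom.comp F'
  have hr' : ∀ x t, r' x t = F' x *ᵥ t := fun x t => by simp [r']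
  obtain ⟨t0, ht0⟩ : ∃ t0, r' D.U.z t0 ≠ 0 := by
    by_contra h
    push Not at h
    have hz0 : r' D.U.z = 0 := LinearMap.ext h
    have h1 : r' D.U.ε = 0 := by
      rw [← D.U.huv, map_sum]
      refine Finset.sum_eq_zero fun l _ => ?_
      rw [map_mul, ← (D.U.hu l).1, map_mul, hz0, mul_zero, zero_mul]
    have := LinearMap.congr_fun h1 (Pi.single D.U.o 1)
    rw [hr', hF'ε, Matrix.one_mulVec, LinearMap.zero_apply] at this
    simpa using congrFun this D.U.o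
  set w0 := r' D.U.z t0 with hw0def
  have hw0z : r' D.U.z w0 = w0 := by rw [hw0def, ← Module.End.mul_apply, ← map_mul, D.U.hz]
  have hw0η : r' D.U.η w0 = 0 := by rw [hr', hF'η, Matrix.zero_mulVec]
  let Φ := D.U.phi r' w0
  have hΦinj : Function.Injective Φ := by
    refine (injective_iff_map_eq_zero _).2 fun t ht => funext fun j => ?_
    have h1 := congrArg (r' (D.U.v j)) ht
    simp only [Φ, D.U.phi_apply, map_sum, map_smul, map_zero, ← Module.End.mul_apply, ← map_mul,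
      D.U.hP] at h1
    rw [Finset.sum_eq_single j] at h1
    · rw [if_pos rfl, hw0z] at h1
      exact (smul_eq_zero.1 h1).resolve_right ht0
    · intro b _ hb
      rw [if_neg hb.symm, map_zero, LinearMap.zero_apply, smul_zero]
    · simp
  let Ψ := LinearEquiv.ofInjectiveEndo Φ hΦinj
  have hΨ : ∀ t, Φ (Ψ.symm t) = t := fun t => Ψ.apply_symm_apply t
  let U : (Matrix (Fin f) (Fin f) k)ˣ := ⟨LinearMap.toMatrix' Φ,
    LinearMap.toMatrix' Ψ.symm.toLinearMap,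
    by rw [← LinearMap.toMatrix'_comp, ← LinearMap.toMatrix'_id]; congr 1; exact LinearMap.ext hΨ,
    by rw [← LinearMap.toMatrix'_comp, ← LinearMap.toMatrix'_id]; congr 1
       exact LinearMap.ext fun t => Ψ.symm_apply_apply t⟩
  let φ : C1 →* (Matrix (Fin f) (Fin f) k)ˣ :=
    (D.U.F.toMonoidHom.comp (MonoidAlgebra.of k C1)).toHomUnits
  have hφ : ∀ c, ((φ c : (Matrix (Fin f) (Fin f) k)ˣ) : Matrix (Fin f) (Fin f) k) =
      D.U.F (MonoidAlgebra.single c 1) := fun c => rfl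
  have hU : ∀ c c' : C1, (c' : G) = g0 * c * g0⁻¹ → U * φ c * U⁻¹ = φ c' := by
    intro c c' hcc
    obtain rfl : c' = φg c := Subtype.ext hcc
    rw [mul_inv_eq_iff_eq_mul]
    refine Units.ext (Matrix.toLin'.injective (LinearMap.ext fun t => ?_))
    simp only [Units.val_mul, hφ, Matrix.toLin'_mul, LinearMap.comp_apply, Matrix.toLin'_apply]
    show LinearMap.toMatrix' Φ *ᵥ (D.U.F _ *ᵥ t) = D.U.F _ *ᵥ (LinearMap.toMatrix' Φ *ᵥ t)
    rw [LinearMap.toMatrix'_mulVec, LinearMap.toMatrix'_mulVec]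
    show Φ _ = _
    rw [D.U.phi_equiv r' hw0z hw0η, hr', ← hm1 c]
    rfl
  -- normalisation
  have hpow : ∀ (j : ℕ) (c c' : C1), (c' : G) = g0 ^ j * c * (g0 ^ j)⁻¹ →
      U ^ j * φ c * (U ^ j)⁻¹ = φ c' := by
    intro j
    induction j with
    | zero => intro c c' h; simp at h ⊢; rw [h]
    | succ j ih =>
      intro c c' h
      let d : C1 := ⟨g0 * c * g0⁻¹, hN _ hg0 _ c.2⟩
      have h1 : (c' : G) = g0 ^ j * d * (g0 ^ j)⁻¹ := by
        rw [h, pow_succ]; simp only [d, _root_.mul_inv_rev, mul_assoc]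
      rw [← ih d c' h1, ← hU c d rfl, pow_succ]
      simp only [_root_.mul_inv_rev, mul_assoc]
  set W := (φ ⟨g0 ^ e, hge⟩)⁻¹ * U ^ e with hW
  have hWc : ∀ c, W * φ c = φ c * W := by
    intro c
    let g : C1 := ⟨g0 ^ e, hge⟩
    have h1 := hpow e c (g * c * g⁻¹) (by simp [g])
    rw [mul_inv_eq_iff_eq_mul, map_mul, map_mul, map_inv] at h1
    rw [hW, mul_assoc, h1]
    simp only [g, mul_assoc, inv_mul_cancel_left]
  have hWall : ∀ x, Commute (W : Matrix (Fin f) (Fin f) k) (D.U.F x) := by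
    intro x
    rw [← sum_coeff_single' x, map_sum]
    refine Commute.sum_right _ _ _ fun c _ => ?_
    rw [map_smul]
    exact (show Commute _ _ from congrArg Units.val (hWc c)).smul_right _
  obtain ⟨w, hw⟩ : ∃ w : k, Matrix.scalar (Fin f) w = (W : Matrix (Fin f) (Fin f) k) :=
    Matrix.mem_range_scalar_of_commute_single fun i j _ => by
      have := (hWall (D.U.u i * D.U.v j)).symm
      rwa [D.U.F_uv] at this
  have hwne : w ≠ 0 := by
    intro h0
    rw [h0, map_zero] at hw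
    exact W.ne_zero hw.symm
  have he0 : 0 < e := Nat.pos_of_ne_zero fun h => he (by rw [h, Nat.cast_zero])
  obtain ⟨ν, hν⟩ := IsAlgClosed.exists_pow_nat_eq w⁻¹ he0
  haveI : NeZero (e : k) := ⟨he⟩
  obtain ⟨ζ, hζ⟩ := HasEnoughRootsOfUnity.exists_primitiveRoot k e
  let a : Fin e → k := fun i => ζ ^ (i : ℕ) * ν
  have hν0 : ν ≠ 0 := fun h => by
    rw [h, zero_pow he0.ne', eq_comm, inv_eq_zero] at hν
    exact hwne hν
  have ha0 : ∀ i, a i ≠ 0 := fun i => mul_ne_zero (pow_ne_zero _ (hζ.ne_zero he0.ne')) hν0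
  let S : Fin e → (Matrix (Fin f) (Fin f) k)ˣ := fun i =>
    (Units.map (Matrix.scalar (Fin f) : k →+* _).toMonoidHom) (Units.mk0 (a i) (ha0 i))
  have hS : ∀ i, ((S i : (Matrix (Fin f) (Fin f) k)ˣ) : Matrix (Fin f) (Fin f) k) =
      Matrix.scalar (Fin f) (a i) := fun i => rfl
  have hScomm : ∀ (i) (X : (Matrix (Fin f) (Fin f) k)ˣ), Commute (S i) X := fun i X =>
    Units.ext (Matrix.scalar_commute (a i) (fun s => Commute.all _ _) _).eq
  have hSU : ∀ i, (S i * U) ^ e = φ ⟨g0 ^ e, hge⟩ := by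
    intro i
    rw [(hScomm i U).mul_pow]
    have hSe : S i ^ e * W = 1 := by
      refine Units.ext ?_
      rw [Units.val_mul, Units.val_pow_eq_pow_val, hS, ← hw, ← map_pow, ← map_mul, Units.val_one]
      have : a i ^ e * w = 1 := by
        simp only [a, mul_pow, ← pow_mul, mul_comm (i : ℕ) e]
        rw [pow_mul, hζ.pow_eq_one, one_pow, one_mul, hν, inv_mul_cancel₀ hwne]
      rw [this, map_one]
    calc S i ^ e * U ^ e = φ ⟨g0 ^ e, hge⟩ * (S i ^ e * W) := by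
          rw [hW, ← mul_assoc (S i ^ e), ((hScomm i (φ ⟨g0 ^ e, hge⟩)⁻¹).pow_left e).eq,
            mul_assoc _ (S i ^ e),
            mul_inv_cancel_left]
      _ = _ := by rw [hSe, mul_one]
  have hSc : ∀ i (c c' : C1), (c' : G) = g0 * c * g0⁻¹ → S i * U * φ c * (S i * U)⁻¹ = φ c' := by
    intro i c c' h
    rw [_root_.mul_inv_rev, show S i * U * φ c * (U⁻¹ * (S i)⁻¹) = S i * (U * φ c * U⁻¹) * (S i)⁻¹ by
      simp only [mul_assoc], hU c c' h, (hScomm i _).eq, mul_inv_cancel_right]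
  choose ρ hρg hρc using fun i => exists_ext D.le_H0 hg0 hgen hord hN φ hge (S i * U) (hSU i) (hSc i)
  refine ⟨ρ, (U : Matrix (Fin f) (Fin f) k), ((U⁻¹ : (Matrix (Fin f) (Fin f) k)ˣ) :
    Matrix (Fin f) (Fin f) k), a, Units.mul_inv U, fun i j h => ?_, fun i => ?_, fun i c => ?_⟩
  · exact Fin.ext (hζ.pow_inj i.2 j.2 (mul_right_cancel₀ hν0 h))
  · rw [hρg, Units.val_mul, hS, Matrix.scalar_apply, ← Matrix.smul_one_eq_diagonal, smul_mul_assoc,
      one_mul]
  · rw [hρc, hφ]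

end Cfsg.Agent.Stable
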