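/-
A module with scalar endomorphisms receives good maps from at most one extension of the simple
module of the local algebra.
-/
import Cfsg.Agent.Lib.Stable.Basic
import Mathlib.LinearAlgebra.Dual.Lemmas

set_option linter.unusedSectionVars false
set_option linter.style.haveILetI false

namespace Cfsg.Agent.Stable

open MonoidAlgebra Cfsg.Agent.Blocks Cfsg.Agent.BrauerPairs Cfsg.Agent.BlockAlg
open scoped Classical Matrix

universe u v

variable {G : Type u} [Group G] [Fintype G] {k : Type} [Field k] {C1 : Subgroup G} {f : ℕ}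
  (D : Data k C1 f) {V : Type v} [AddCommGroup V] [Module k V]
  (r : MonoidAlgebra k G →ₐ[k] Module.End k V)

/-- The vector defines a map out of an extension of the simple module. -/
def IsHMap (ρ : D.H0 →* Matrix (Fin f) (Fin f) k) (w : V) : Prop :=
  rc C1 r D.U.z w = w ∧ rc C1 r D.U.η w = 0 ∧
    ∀ (h : D.H0) (t : Fin f → k),
      D.U.phi (rc C1 r) w (ρ h *ᵥ t) = rg r (h : G) (D.U.phi (rc C1 r) w t)

/-- The vectors in the last layer. -/
noncomputable def bad : Submodule k V := LinearMap.range (rc C1 r (D.U.η ^ (D.U.N - 1)))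

theorem mem_layer_rg {h : G} (hh : h ∈ D.H0) {n : ℕ} {v : V}
    (hv : v ∈ LinearMap.range (rc C1 r (D.U.η ^ n))) :
    rg r h v ∈ LinearMap.range (rc C1 r (D.U.η ^ n)) := by
  obtain ⟨w, rfl⟩ := hv
  obtain ⟨y, hy⟩ := D.cj_η h hh
  refine ⟨rc C1 r (y ^ n) (rg r h w), ?_⟩
  have e : cj h (em C1 (D.U.η ^ n)) = em C1 (D.U.η ^ n * y ^ n) := by
    rw [map_pow, map_pow, hy, ← map_pow,
      (show Commute D.U.η y from D.U.η_comm y).mul_pow]
  have h1 := r_cj_mul r h (em C1 (D.U.η ^ n))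
  rw [e, map_mul, map_mul] at h1
  have := LinearMap.congr_fun h1 w
  simpa [rc_apply, Module.End.mul_apply] using this

theorem mem_layer_rc {n : ℕ} {v : V} (hv : v ∈ LinearMap.range (rc C1 r (D.U.η ^ n)))
    (x : MonoidAlgebra k C1) : rc C1 r x v ∈ LinearMap.range (rc C1 r (D.U.η ^ n)) := by
  obtain ⟨w, rfl⟩ := hv
  refine ⟨rc C1 r x w, ?_⟩
  rw [← Module.End.mul_apply, ← Module.End.mul_apply, ← map_mul, ← map_mul,
    ((show Commute D.U.η x from D.U.η_comm x).pow_left n).eq]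

theorem layer_anti {n m : ℕ} (h : n ≤ m) :
    LinearMap.range (rc C1 r (D.U.η ^ m)) ≤ LinearMap.range (rc C1 r (D.U.η ^ n)) := by
  rw [← Nat.add_sub_cancel' h, pow_add, map_mul]
  exact LinearMap.range_comp_le_range _ _

theorem exists_layer {x : V} (hz : rc C1 r D.U.z x = x) (hx : x ∉ bad D r) :
    ∃ n x', n + 1 < D.U.N ∧ rc C1 r D.U.z x' = x' ∧ rc C1 r (D.U.η ^ n) x' = x ∧
      x ∉ LinearMap.range (rc C1 r (D.U.η ^ (n + 1))) := by
  have hex : ∃ n, x ∉ LinearMap.range (rc C1 r (D.U.η ^ n)) := ⟨D.U.N - 1, hx⟩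
  have hm := Nat.find_spec hex
  have hle : Nat.find hex ≤ D.U.N - 1 := Nat.find_min' hex hx
  have hpos : 0 < Nat.find hex := by
    refine Nat.pos_of_ne_zero fun h => ?_
    rw [h, pow_zero, map_one] at hm
    exact hm ⟨x, rfl⟩
  obtain ⟨x0, hx0⟩ := not_not.1 (Nat.find_min hex (Nat.sub_lt hpos Nat.one_pos))
  refine ⟨Nat.find hex - 1, rc C1 r D.U.z x0, by have := D.two_le; omega, ?_, ?_, ?_⟩
  · rw [← Module.End.mul_apply, ← map_mul, D.U.hz]
  · rw [← Module.End.mul_apply, ← map_mul,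
      ((show Commute D.U.η D.U.z from D.U.η_comm _).pow_left _).eq, map_mul, Module.End.mul_apply,
      hx0, hz]
  · rwa [Nat.sub_add_cancel hpos]

/-- A stable sum of conjugates of a `P`-endomorphism commutes with the group stabilising it. -/
theorem commute_sum_cnj {γ : Module.End k V} {P : Subgroup G}
    (hγ : ∀ u ∈ P, Commute γ (rg r u)) (S : Finset (G ⧸ P)) {g : G}
    (hS : ∀ q, g • q ∈ S ↔ q ∈ S) :
    Commute (∑ q ∈ S, cnj r q.out γ) (rg r g) := by
  show _ * _ = _ * _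
  rw [Finset.sum_mul, Finset.mul_sum]
  symm
  refine Finset.sum_equiv (MulAction.toPerm g) (fun q => (hS q).symm) fun q _ => ?_
  have e : cnj r (g • q).out γ = cnj r (g * q.out) γ := by
    have : g • q = QuotientGroup.mk (g * q.out) := by
      conv_lhs => rw [← q.out_eq]
      rfl
    rw [this, cnj_out r hγ]
  rw [MulAction.toPerm_apply, e]
  simp only [cnj, rg_mul, _root_.mul_inv_rev, mul_assoc, ← rg_mul r g⁻¹ g, inv_mul_cancel, rg_one,
    mul_one]

/-- The outer part of the trace from `P` is a trace from the trivial subgroup. -/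
theorem exists_outer {γ : Module.End k V} (hγ : ∀ u ∈ D.P, Commute γ (rg r u)) :
    ∃ Y' : Module.End k V,
      rc C1 r D.U.ε * (∑ q ∈ (Finset.univ : Finset (G ⧸ D.P)).filter (fun q => q.out ∉ D.N0),
        cnj r q.out γ) * rc C1 r D.U.ε = ∑ c : C1, cnj r (c : G) Y' := by
  set π := rc C1 r D.U.ε with hπ
  set S := (Finset.univ : Finset (G ⧸ D.P)).filter (fun q => q.out ∉ D.N0) with hS
  set Y := ∑ q ∈ S, cnj r q.out γ with hY
  have hPN : D.P ≤ D.N0 := D.P_le.trans (D.le_H0.trans D.H0_le)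
  have hout : ∀ g : G, (QuotientGroup.mk g : G ⧸ D.P).out ∈ D.N0 ↔ g ∈ D.N0 := fun g => by
    obtain ⟨u, hu⟩ := QuotientGroup.mk_out_eq_mul D.P g
    rw [hu]
    exact D.N0.mul_mem_cancel_right (hPN u.2)
  have hmem : ∀ g ∈ D.N0, ∀ q, g • q ∈ S ↔ q ∈ S := fun g hg q => by
    have : g • q = QuotientGroup.mk (g * q.out) := by
      conv_lhs => rw [← q.out_eq]
      rfl
    simp only [S, Finset.mem_filter, Finset.mem_univ, true_and, this, hout,
      D.N0.mul_mem_cancel_left hg]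
  have hπc : ∀ c ∈ C1, Commute π (rg r c) := fun c hc => by
    have := (show Commute D.U.ε (MonoidAlgebra.single (⟨c, hc⟩ : C1) 1) from D.U.ε_comm _).map
      (rc C1 r)
    rwa [rc_single] at this
  have hππ : π * π = π := by rw [hπ, ← map_mul, D.U.ε_idem]
  have hYc : ∀ c ∈ C1, Commute Y (rg r c) := fun c hc =>
    commute_sum_cnj r hγ S (hmem c (D.H0_le (D.le_H0 hc)))
  obtain ⟨α, hαP, hπα, hαπ, hαsum⟩ := exists_trace D r hπc hππ
  -- a transversal of the free action
  let _ : MulAction D.P {q // q ∈ S} :=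
    { smul := fun u q => ⟨(u : G) • (q : G ⧸ D.P), (hmem _ (hPN u.2) _).2 q.2⟩
      one_smul := fun q => Subtype.ext (one_smul G (q : G ⧸ D.P))
      mul_smul := fun u v q => Subtype.ext (mul_smul (u : G) (v : G) (q : G ⧸ D.P)) }
  let Ω := MulAction.orbitRel.Quotient D.P {q // q ∈ S}
  have hfree : ∀ (u : D.P) (q : {q // q ∈ S}), u • q = q → u = 1 := by
    intro u q h
    by_contra hu
    have hq : (q : G ⧸ D.P).out ∉ D.N0 := (Finset.mem_filter.1 q.2).2
    refine D.free _ hq u u.2 (fun h => hu (Subtype.ext h)) ?_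
    have h' : (QuotientGroup.mk ((u : G) * (q : G ⧸ D.P).out) : G ⧸ D.P) =
        QuotientGroup.mk (q : G ⧸ D.P).out := by
      have := congrArg Subtype.val h
      conv_rhs => rw [QuotientGroup.out_eq']
      conv_rhs => rw [← this]
      show _ = (u : G) • (q : G ⧸ D.P)
      conv_rhs => rw [← QuotientGroup.out_eq' (q : G ⧸ D.P)]
      rfl
    have := inv_mem (QuotientGroup.eq.1 h')
    simpa [mul_assoc] using this
  let Φ : D.P × Ω → {q // q ∈ S} := fun x => x.1 • Quotient.out x.2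
  have hΦ : Function.Bijective Φ := by
    refine ⟨?_, fun s => ?_⟩
    · rintro ⟨u, o⟩ ⟨u', o'⟩ h
      change u • Quotient.out o = u' • Quotient.out o' at h
      have ho : o = o' := by
        rw [← Quotient.out_eq o, ← Quotient.out_eq o']
        refine Quotient.sound ⟨u⁻¹ * u', ?_⟩
        show (u⁻¹ * u') • Quotient.out o' = Quotient.out o
        rw [mul_smul, ← h, inv_smul_smul]
      subst ho
      have : (u'⁻¹ * u) • Quotient.out o = Quotient.out o := by
        rw [mul_smul, h, inv_smul_smul]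
      rw [inv_mul_eq_one.1 (hfree _ _ this)]
    · obtain ⟨u, hu⟩ := Quotient.exact
        (Quotient.out_eq (Quotient.mk (MulAction.orbitRel D.P {q // q ∈ S}) s))
      exact ⟨(u⁻¹, Quotient.mk _ s), inv_smul_eq_iff.2 hu.symm⟩
  let Y0 := ∑ o : Ω, cnj r ((Quotient.out o : {q // q ∈ S}) : G ⧸ D.P).out γ
  have hY0 : Y = ∑ u : D.P, cnj r (u : G) Y0 := by
    have e : ∀ x : D.P × Ω, cnj r ((Φ x : {q // q ∈ S}) : G ⧸ D.P).out γ =
        cnj r (x.1 : G) (cnj r ((Quotient.out x.2 : {q // q ∈ S}) : G ⧸ D.P).out γ) := by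
      intro x
      rw [cnj_cnj, ← cnj_out r hγ ((x.1 : G) * _)]
      congr 2
      show ((x.1 : G) • ((Quotient.out x.2 : {q // q ∈ S}) : G ⧸ D.P)) = _
      conv_lhs => rw [← QuotientGroup.out_eq' ((Quotient.out x.2 : {q // q ∈ S}) : G ⧸ D.P)]
      rfl
    rw [hY, ← Finset.sum_coe_sort S, ← (Equiv.ofBijective Φ hΦ).sum_comp]
    simp only [Equiv.ofBijective_apply]
    rw [Finset.sum_congr rfl (fun x _ => e x), Fintype.sum_prod_type]
    refine Finset.sum_congr rfl fun u _ => ?_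
    simp only [Y0, cnj, Finset.mul_sum, Finset.sum_mul]
  refine ⟨π * Y0 * α, ?_⟩
  have h1 : π * Y * π = ∑ x : C1 ⧸ D.P.subgroupOf C1, cnj r ((x.out : C1) : G) (π * Y * α) := by
    rw [show π * Y * π = π * Y * ∑ x : C1 ⧸ D.P.subgroupOf C1, cnj r ((x.out : C1) : G) α from by
      rw [hαsum], Finset.mul_sum]
    refine Finset.sum_congr rfl fun x _ => ?_
    simp only [cnj]
    rw [← mul_assoc, ← mul_assoc, ((hπc _ x.out.2).mul_left (hYc _ x.out.2)).eq]
    simp only [mul_assoc]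
  have h2 : π * Y * α = ∑ u : D.P, cnj r (u : G) (π * Y0 * α) := by
    rw [hY0, Finset.mul_sum, Finset.sum_mul]
    refine Finset.sum_congr rfl fun u _ => ?_
    simp only [cnj]
    rw [show π * (rg r (u : G) * Y0 * rg r (u : G)⁻¹) * α =
        π * rg r (u : G) * Y0 * (rg r (u : G)⁻¹ * α) by simp only [mul_assoc],
      (hπc _ (D.P_le u.2)).eq, ← (hαP _ (inv_mem u.2)).eq]
    simp only [mul_assoc]
  rw [h1, h2]
  simp only [show ∀ (g : G) (F : D.P → Module.End k V), cnj r g (∑ u, F u) = ∑ u, cnj r g (F u)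
    from fun g F => by simp only [cnj, Finset.mul_sum, Finset.sum_mul], cnj_cnj]
  rw [← Fintype.sum_prod_type'
    (fun (x : C1 ⧸ D.P.subgroupOf C1) (u : D.P) => cnj r (((x.out : C1) : G) * (u : G)) (π * Y0 * α))]
  refine Fintype.sum_bijective
    (fun xu : (C1 ⧸ D.P.subgroupOf C1) × D.P =>
      xu.1.out * (⟨(xu.2 : G), D.P_le xu.2.2⟩ : C1)) ⟨?_, ?_⟩ _ _ fun xu => rfl
  · rintro ⟨x, u⟩ ⟨x', u'⟩ h
    simp only at h
    have hm : ∀ w : D.P, (⟨(w : G), D.P_le w.2⟩ : C1) ∈ D.P.subgroupOf C1 :=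
      fun w => Subgroup.mem_subgroupOf.2 w.2
    have hx : x = x' := by
      rw [← QuotientGroup.out_eq' x, ← QuotientGroup.out_eq' x']
      have := congrArg (QuotientGroup.mk (s := D.P.subgroupOf C1)) h
      rwa [QuotientGroup.mk_mul_of_mem _ (hm u), QuotientGroup.mk_mul_of_mem _ (hm u')] at this
    subst hx
    have := congrArg Subtype.val (mul_left_cancel h)
    simp only at this
    rw [Subtype.ext this]
  · intro c
    obtain ⟨w, hw⟩ := QuotientGroup.mk_out_eq_mul (D.P.subgroupOf C1) c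
    refine ⟨(QuotientGroup.mk c, ⟨((w : C1) : G)⁻¹, inv_mem (Subgroup.mem_subgroupOf.1 w.2)⟩),
      Subtype.ext ?_⟩
    simp [hw]

/-- Two good vectors in a module with scalar endomorphisms belong to the same extension. -/
theorem false_of_two [FiniteDimensional k V]
    (hscal : ∀ ψ : Module.End k V, (∀ g, Commute ψ (rg r g)) → ∃ c : k, ψ = c • 1)
    {ρx ρy : D.H0 →* Matrix (Fin f) (Fin f) k} {g0 : D.H0} {U0 U1 : Matrix (Fin f) (Fin f) k}
    (hU : U0 * U1 = 1) {ax ay : k} (hax : ρx g0 = ax • U0) (hay : ρy g0 = ay • U0) (hne : ax ≠ ay)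
    {x y : V} (hx : IsHMap D r ρx x) (hy : IsHMap D r ρy y) (hxb : x ∉ bad D r)
    (hyb : y ∉ bad D r) {n n' : ℕ} {y' : V}
    (hxn : x ∉ LinearMap.range (rc C1 r (D.U.η ^ (n + 1)))) (hy'z : rc C1 r D.U.z y' = y')
    (hy'y : rc C1 r (D.U.η ^ n') y' = y)
    (hyn : y ∉ LinearMap.range (rc C1 r (D.U.η ^ (n' + 1)))) (hnn : n ≤ n') : False := by
  set L : ℕ → Submodule k V := fun i => LinearMap.range (rc C1 r (D.U.η ^ i))
  obtain ⟨hxz, hxη, hxH⟩ := hx
  obtain ⟨hyz, hyη, hyH⟩ := hy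
  set Φ := D.U.phi (rc C1 r) with hΦ
  have hΦo : ∀ w, rc C1 r D.U.z w = w → rc C1 r D.U.η w = 0 → Φ w (Pi.single D.U.o 1) = w :=
    fun w h1 h2 => D.U.phi_o (rc C1 r) h1 h2
  -- the separating functional
  have hnot : y ∉ L (n' + 1) ⊔ (k ∙ x) := by
    intro hmem
    obtain ⟨q, hq, s, hs, hsum⟩ := Submodule.mem_sup.1 hmem
    obtain ⟨c, rfl⟩ := Submodule.mem_span_singleton.1 hs
    rcases eq_or_ne c 0 with rfl | hc
    · rw [zero_smul, add_zero] at hsum
      exact hyn (hsum ▸ hq)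
    have hxy : x = c⁻¹ • (y - q) := by
      rw [← hsum, add_sub_cancel_left, smul_smul, inv_mul_cancel₀ hc, one_smul]
    have hxL : x ∈ L n' := hxy ▸ (L n').smul_mem _
      (sub_mem ⟨y', hy'y⟩ (layer_anti D r (Nat.le_succ n') hq))
    have hnn' : n = n' := by
      by_contra hne'
      exact hxn (layer_anti D r (by omega) hxL)
    subst hnn'
    have hd : y - c • x ∈ L (n + 1) := by rw [← hsum, add_sub_cancel_right]; exact hq
    have hall : ∀ t, Φ (y - c • x) t ∈ L (n + 1) := fun t => by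
      rw [hΦ, D.U.phi_apply]
      exact Submodule.sum_mem _ fun l _ => Submodule.smul_mem _ _ (mem_layer_rc D r hd _)
    have h1 : rg r (g0 : G) (Φ (y - c • x) (U1 *ᵥ Pi.single D.U.o 1)) ∈ L (n + 1) :=
      mem_layer_rg D r g0.2 (hall _)
    rw [hΦ, D.U.phi_sub, D.U.phi_smul, LinearMap.sub_apply, LinearMap.smul_apply, map_sub, map_smul,
      ← hxH g0, ← hyH g0, hax, hay, Matrix.smul_mulVec, Matrix.smul_mulVec, Matrix.mulVec_mulVec,
      hU, Matrix.one_mulVec, map_smul, map_smul, hΦo x hxz hxη, hΦo y hyz hyη] at h1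
    have h2 : ((ay - ax) * c) • x ∈ L (n + 1) := by
      have e : ((ay - ax) * c) • x = (ay • y - c • ax • x) - ay • (y - c • x) := by module
      rw [e]
      exact sub_mem h1 ((L (n + 1)).smul_mem _ hd)
    exact hxn ((Submodule.smul_mem_iff _ (mul_ne_zero (sub_ne_zero.2 hne.symm) hc)).1 h2)
  obtain ⟨φ0, hφ0, hφker⟩ := Submodule.exists_dual_map_eq_bot_of_notMem hnot inferInstance
  have hker : ∀ w ∈ L (n' + 1) ⊔ (k ∙ x), φ0 w = 0 := fun w hw =>
    Submodule.mem_bot k |>.1 (hφker ▸ ⟨w, hw, rfl⟩)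
  let φ : V →ₗ[k] k := (φ0 y)⁻¹ • φ0
  have hφy : φ y = 1 := by simp [φ, inv_mul_cancel₀ hφ0]
  have hφ1 : ∀ w, φ (rc C1 r (D.U.η ^ (n' + 1)) w) = 0 := fun w => by
    show (φ0 y)⁻¹ • φ0 _ = 0
    rw [hker _ (Submodule.mem_sup_left ⟨w, rfl⟩), smul_zero]
  have hφx : φ x = 0 := by
    simp [φ, hker _ (Submodule.mem_sup_right (Submodule.mem_span_singleton_self x))]
  -- the endomorphism of the corner
  let E0 : Module.End k V := ∑ j ∈ Finset.range (n' + 1),
    (φ.comp (rc C1 r (D.U.η ^ (n' - j)))).smulRight (rc C1 r (D.U.η ^ j) y')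
  have hE0a : ∀ v, E0 v = ∑ j ∈ Finset.range (n' + 1),
      φ (rc C1 r (D.U.η ^ (n' - j)) v) • rc C1 r (D.U.η ^ j) y' :=
    fun v => by simp [E0, LinearMap.sum_apply]
  have hηη : ∀ (i : ℕ) v, rc C1 r (D.U.η ^ i) (rc C1 r D.U.η v) = rc C1 r (D.U.η ^ (i + 1)) v :=
    fun i v => by rw [← Module.End.mul_apply, ← map_mul, pow_succ]
  have hηη' : ∀ (i : ℕ) v, rc C1 r D.U.η (rc C1 r (D.U.η ^ i) v) = rc C1 r (D.U.η ^ (i + 1)) v :=
    fun i v => by rw [← Module.End.mul_apply, ← map_mul, pow_succ']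
  have hy'1 : rc C1 r (D.U.η ^ (n' + 1)) y' = 0 := by rw [← hηη', hy'y, hyη]
  have hE0η : ∀ v, E0 (rc C1 r D.U.η v) = rc C1 r D.U.η (E0 v) := by
    intro v
    rw [hE0a, hE0a, map_sum]
    simp only [map_smul, hηη, hηη']
    rw [Finset.sum_range_succ', Finset.sum_range_succ, Nat.sub_zero, hφ1, zero_smul, add_zero, hy'1,
      smul_zero, add_zero]
    refine Finset.sum_congr rfl fun j hj => ?_
    have := Finset.mem_range.1 hj
    rw [show n' - (j + 1) + 1 = n' - j by omega]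
  have hE0z : ∀ v, rc C1 r D.U.z (E0 v) = E0 v := by
    intro v
    rw [hE0a, map_sum]
    refine Finset.sum_congr rfl fun j _ => ?_
    rw [map_smul, ← Module.End.mul_apply, ← map_mul,
      ← ((show Commute D.U.η D.U.z from D.U.η_comm _).pow_left j).eq, map_mul,
      Module.End.mul_apply, hy'z]
  have hpow0 : ∀ {w : V}, rc C1 r D.U.η w = 0 → ∀ i, 0 < i → rc C1 r (D.U.η ^ i) w = 0 := by
    intro w hw i hi
    obtain ⟨j, rfl⟩ := Nat.exists_eq_succ_of_ne_zero hi.ne'
    rw [← hηη, hw, map_zero]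
  have hE0x : E0 x = 0 := by
    rw [hE0a]
    refine Finset.sum_eq_zero fun j hj => ?_
    rcases Nat.eq_zero_or_pos (n' - j) with h | h
    · rw [h, pow_zero, map_one, Module.End.one_apply, hφx, zero_smul]
    · rw [hpow0 hxη _ h, map_zero, zero_smul]
  have hE0y : E0 y = y := by
    rw [hE0a, Finset.sum_range_succ, Finset.sum_eq_zero fun j hj => ?_]
    · rw [Nat.sub_self, pow_zero, map_one, Module.End.one_apply, hφy, one_smul, zero_add, hy'y]
    · have := Finset.mem_range.1 hj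
      rw [hpow0 hyη _ (by omega), map_zero, zero_smul]
  obtain ⟨E, hEc, hEε, hEu⟩ := D.U.exists_extend_end (rc C1 r) E0 hE0η hE0z
  have hEg : ∀ c ∈ C1, Commute E (rg r c) := fun c hc => by
    simpa [rc_single] using hEc (MonoidAlgebra.single (⟨c, hc⟩ : C1) 1)
  have hEΦ : ∀ w, rc C1 r D.U.z w = w → ∀ t, E (Φ w t) = Φ (E0 w) t := by
    intro w hw t
    rw [hΦ, D.U.phi_apply, D.U.phi_apply, map_sum]
    exact Finset.sum_congr rfl fun l _ => by rw [map_smul, hEu w l hw]
  obtain ⟨γ, hγP, hπγ, hγπ, hγsum⟩ := exists_trace D r hEg hEε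
  set π := rc C1 r D.U.ε with hπ
  -- the trace to the whole group is a scalar
  set ψ := ∑ q : G ⧸ D.P, cnj r q.out γ with hψ
  obtain ⟨κ, hκ⟩ := hscal ψ fun g => commute_sum_cnj r hγP _ fun q => by simp
  set SH := (Finset.univ : Finset (G ⧸ D.P)).filter (fun q => q.out ∈ D.H0)
  set SN := (Finset.univ : Finset (G ⧸ D.P)).filter (fun q => q.out ∉ D.N0)
  obtain ⟨Y', hY'⟩ := exists_outer D r hγP
  have hπh : ∀ h ∈ D.H0, Commute π (rg r h) := fun h hh => by
    have h1 := r_cj_mul r h (em C1 D.U.ε)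
    rw [D.cj_ε h hh] at h1
    exact h1
  have hmid : ∀ g ∈ D.N0, g ∉ D.H0 → π * cnj r g γ = 0 := fun g hg hgH => by
    have h1 : π * (rg r g * π) = 0 := by
      rw [hπ, rc_apply, ← r_cj_mul, ← mul_assoc, ← map_mul, D.orth g hg hgH, map_zero, zero_mul]
    rw [cnj, ← hπγ, show π * (rg r g * (π * γ) * rg r g⁻¹) = π * (rg r g * π) * γ * rg r g⁻¹ by
      simp only [mul_assoc], h1, zero_mul, zero_mul]
  have hsplit : π * ψ * π =
      (∑ q ∈ SH, cnj r q.out γ) * π + ∑ c : C1, cnj r (c : G) Y' := by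
    rw [← hY', hψ, ← Finset.sum_filter_add_sum_filter_not _ (fun q => q.out ∈ D.H0), mul_add,
      add_mul]
    congr 1
    · rw [show π * ∑ q ∈ SH, cnj r q.out γ = (∑ q ∈ SH, cnj r q.out γ) * π from ?_, mul_assoc,
        hπ, ← map_mul, D.U.ε_idem]
      rw [Finset.mul_sum, Finset.sum_mul]
      refine Finset.sum_congr rfl fun q hq => ?_
      have hh := (Finset.mem_filter.1 hq).2
      exact ((hπh _ hh).mul_right (hπγ.trans hγπ.symm)).mul_right (hπh _ (inv_mem hh))
    · rw [Finset.mul_sum, Finset.sum_mul, Finset.mul_sum, Finset.sum_mul]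
      symm
      refine Finset.sum_subset (fun q hq => ?_) fun q hq hq' => ?_
      · simp only [Finset.mem_filter, Finset.mem_univ, true_and] at hq ⊢
        exact fun h => hq (D.H0_le h)
      · simp only [Finset.mem_filter, Finset.mem_univ, true_and, not_not] at hq hq'
        rw [hmid _ hq' hq, zero_mul]
  -- the inner part
  have hN0P : D.P ≤ D.H0 := D.P_le.trans D.le_H0
  have houtH : ∀ g : G, (QuotientGroup.mk g : G ⧸ D.P).out ∈ D.H0 ↔ g ∈ D.H0 := fun g => by
    obtain ⟨u, hu⟩ := QuotientGroup.mk_out_eq_mul D.P g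
    rw [hu]
    exact D.H0.mul_mem_cancel_right (hN0P u.2)
  have hinner : ∑ q ∈ SH, cnj r q.out γ =
      ∑ h : D.H0 ⧸ C1.subgroupOf D.H0, cnj r ((h.out : D.H0) : G) E := by
    simp only [← hγsum,
      show ∀ (g : G) (F : C1 ⧸ D.P.subgroupOf C1 → Module.End k V),
        cnj r g (∑ x, F x) = ∑ x, cnj r g (F x)
      from fun g F => by simp only [cnj, Finset.mul_sum, Finset.sum_mul], cnj_cnj]
    rw [← Fintype.sum_prod_type' (fun (h : D.H0 ⧸ C1.subgroupOf D.H0)
      (x : C1 ⧸ D.P.subgroupOf C1) => cnj r (((h.out : D.H0) : G) * ((x.out : C1) : G)) γ)]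
    symm
    refine Finset.sum_bij
      (fun hx _ => QuotientGroup.mk (((hx.1.out : D.H0) : G) * ((hx.2.out : C1) : G)))
      (fun hx _ => Finset.mem_filter.2 ⟨Finset.mem_univ _,
        (houtH _).2 (mul_mem hx.1.out.2 (D.le_H0 hx.2.out.2))⟩)
      ?_ ?_ (fun hx _ => (cnj_out r hγP _).symm)
    · rintro ⟨h, x⟩ - ⟨h', x'⟩ - he
      simp only at he
      have h0 := QuotientGroup.eq.1 he
      have hh : h = h' := by
        rw [← QuotientGroup.out_eq' h, ← QuotientGroup.out_eq' h']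
        refine QuotientGroup.eq.2 (Subgroup.mem_subgroupOf.2 ?_)
        have := mul_mem (mul_mem x.out.2 (D.P_le h0)) (inv_mem x'.out.2)
        simpa [mul_assoc] using this
      subst hh
      have hx : x = x' := by
        rw [← QuotientGroup.out_eq' x, ← QuotientGroup.out_eq' x']
        refine QuotientGroup.eq.2 (Subgroup.mem_subgroupOf.2 ?_)
        simpa [mul_assoc] using h0
      rw [hx]
    · intro q hq
      have hh := (Finset.mem_filter.1 hq).2
      obtain ⟨c, hc⟩ := QuotientGroup.mk_out_eq_mul (C1.subgroupOf D.H0) ⟨q.out, hh⟩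
      let c' : C1 := ⟨((c : D.H0) : G)⁻¹, inv_mem (Subgroup.mem_subgroupOf.1 c.2)⟩
      obtain ⟨u, hu⟩ := QuotientGroup.mk_out_eq_mul (D.P.subgroupOf C1) c'
      refine ⟨(QuotientGroup.mk ⟨q.out, hh⟩, QuotientGroup.mk c'), Finset.mem_univ _, ?_⟩
      show QuotientGroup.mk _ = q
      conv_rhs => rw [← QuotientGroup.out_eq' q]
      refine QuotientGroup.eq.2 ?_
      simp only [hc, hu, c', Subgroup.coe_mul]
      have := inv_mem (Subgroup.mem_subgroupOf.1 u.2 : ((u : C1) : G) ∈ D.P)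
      simpa [mul_assoc] using this
  -- evaluation
  have hcard : Fintype.card (D.H0 ⧸ C1.subgroupOf D.H0) = C1.relIndex D.H0 := by
    rw [Subgroup.relIndex, Subgroup.index, Nat.card_eq_fintype_card]
  have heval : ∀ {ρ : D.H0 →* Matrix (Fin f) (Fin f) k} {w : V}, IsHMap D r ρ w → ∀ {b : k},
      E0 w = b • w →
      κ • w - ((C1.relIndex D.H0 : k) * b) • w ∈ bad D r := by
    intro ρ w hw b hb
    obtain ⟨hwz, hwη, hwH⟩ := hw
    have hπw : π w = w := by
      conv_lhs => rw [← hwz]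
      rw [hπ, ← Module.End.mul_apply, ← map_mul, D.U.ε_comm, D.U.hze, hwz]
    have h := LinearMap.congr_fun hsplit w
    rw [hκ, LinearMap.add_apply, Module.End.mul_apply, Module.End.mul_apply, Module.End.mul_apply,
      hπw, LinearMap.smul_apply, Module.End.one_apply, map_smul, hπw, hinner,
      LinearMap.sum_apply] at h
    have hone : ∀ q : D.H0 ⧸ C1.subgroupOf D.H0, cnj r ((q.out : D.H0) : G) E w = b • w := by
      intro q
      conv_lhs => rw [cnj, Module.End.mul_apply, Module.End.mul_apply, ← hΦo w hwz hwη]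
      rw [← InvMemClass.coe_inv, ← hwH, hEΦ w hwz, hb, hΦ, D.U.phi_smul, LinearMap.smul_apply,
        map_smul, ← hwH, Matrix.mulVec_mulVec, ← map_mul, mul_inv_cancel, map_one,
        Matrix.one_mulVec, ← hΦ, hΦo w hwz hwη]
    rw [Finset.sum_congr rfl fun q _ => hone q, Finset.sum_const, Finset.card_univ, hcard,
      ← Nat.cast_smul_eq_nsmul k, smul_smul] at h
    rw [h, add_sub_cancel_left]
    exact trace_one_mem D r Y' hπw hwη
  have hκ0 : κ = 0 := by
    by_contra hk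
    have h := heval ⟨hxz, hxη, hxH⟩ (b := 0) (by rw [hE0x, zero_smul])
    rw [mul_zero, zero_smul, sub_zero] at h
    exact hxb ((Submodule.smul_mem_iff _ hk).1 h)
  have h := heval ⟨hyz, hyη, hyH⟩ (b := 1) (by rw [hE0y, one_smul])
  rw [hκ0, zero_smul, mul_one, zero_sub, neg_mem_iff, Submodule.smul_mem_iff _ D.e_ne] at h
  exact hyb h

/-- A module with scalar endomorphisms has good vectors for at most one extension. -/
theorem eq_of_two [FiniteDimensional k V]
    (hscal : ∀ ψ : Module.End k V, (∀ g, Commute ψ (rg r g)) → ∃ c : k, ψ = c • 1)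
    {ρx ρy : D.H0 →* Matrix (Fin f) (Fin f) k} {g0 : D.H0} {U0 U1 : Matrix (Fin f) (Fin f) k}
    (hU : U0 * U1 = 1) {ax ay : k} (hax : ρx g0 = ax • U0) (hay : ρy g0 = ay • U0)
    {x y : V} (hx : IsHMap D r ρx x) (hy : IsHMap D r ρy y) (hxb : x ∉ bad D r)
    (hyb : y ∉ bad D r) : ax = ay := by
  by_contra hne
  obtain ⟨n, x', -, hx'z, hx'x, hxn⟩ := exists_layer D r hx.1 hxb
  obtain ⟨n', y', -, hy'z, hy'y, hyn⟩ := exists_layer D r hy.1 hyb
  rcases le_total n n' with h | h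
  · exact false_of_two D r hscal hU hax hay hne hx hy hxb hyb hxn hy'z hy'y hyn h
  · exact false_of_two D r hscal hU hay hax (Ne.symm hne) hy hx hyb hxb hyn hx'z hx'x hxn h

end Cfsg.Agent.Stable
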