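/-
Every extension has a good map into some simple module of the block, so there are at least as many
simple modules as extensions.
-/
import Cfsg.Agent.Lib.Stable.Unique
import Cfsg.Agent.Lib.Stable.Extensions

set_option linter.unusedSectionVars false
set_option linter.style.haveILetI false

namespace Cfsg.Agent.Stable

open MonoidAlgebra Cfsg.Agent.Blocks Cfsg.Agent.BrauerPairs Cfsg.Agent.BlockAlg
open scoped Classical Matrix

universe u v

variable {G : Type u} [Group G] [Fintype G] {k : Type} [Field k] {C1 : Subgroup G} {f : ℕ}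
  (D : Data k C1 f)

/-- The functions on the group transforming by a representation of the stabiliser. -/
def indSub {H : Subgroup G} (ρ : H →* Matrix (Fin f) (Fin f) k) :
    Submodule k (G → Fin f → k) where
  carrier := {φ | ∀ (h : H) (x : G), φ ((h : G) * x) = ρ h *ᵥ φ x}
  add_mem' := fun ha hb h x => by simp [ha h x, hb h x, Matrix.mulVec_add]
  zero_mem' := fun h x => by simp
  smul_mem' := fun c a ha h x => by simp [ha h x, Matrix.mulVec_smul]

/-- The induced representation of the group. -/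
def indHom {H : Subgroup G} (ρ : H →* Matrix (Fin f) (Fin f) k) :
    G →* Module.End k (indSub ρ) where
  toFun g :=
    { toFun := fun φ => ⟨fun x => (φ : G → Fin f → k) (x * g), fun h x => by
        show (φ : G → Fin f → k) ((h : G) * x * g) = _
        rw [mul_assoc]; exact φ.2 h _⟩
      map_add' := fun _ _ => rfl
      map_smul' := fun _ _ => rfl }
  map_one' := LinearMap.ext fun φ => Subtype.ext (funext fun x => by simp)
  map_mul' g g' := LinearMap.ext fun φ => Subtype.ext (funext fun x => by simp [mul_assoc])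

/-- The induced representation of the group algebra. -/
noncomputable def indRep {H : Subgroup G} (ρ : H →* Matrix (Fin f) (Fin f) k) :
    MonoidAlgebra k G →ₐ[k] Module.End k (indSub ρ) :=
  MonoidAlgebra.lift k (Module.End k (indSub ρ)) G (indHom ρ)

theorem indRep_single {H : Subgroup G} (ρ : H →* Matrix (Fin f) (Fin f) k) (g : G) :
    indRep ρ (MonoidAlgebra.single g 1) = indHom ρ g := by
  simp [indRep]

/-- The value at one of the action of a general element. -/
theorem indRep_apply_one {H : Subgroup G} (ρ : H →* Matrix (Fin f) (Fin f) k)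
    (a : MonoidAlgebra k G) (φ : indSub ρ) :
    ((indRep ρ a φ : indSub ρ) : G → Fin f → k) 1 =
      ∑ g, a.coeff g • (φ : G → Fin f → k) g := by
  conv_lhs => rw [← sum_coeff_single' a]
  simp only [map_sum, map_smul, indRep_single, LinearMap.sum_apply, LinearMap.smul_apply,
    AddSubmonoidClass.coe_finsetSum, Finset.sum_apply, SetLike.val_smul, Pi.smul_apply]
  refine Finset.sum_congr rfl fun g _ => ?_
  congr 1
  show (φ : G → Fin f → k) (1 * g) = _
  rw [one_mul]

theorem commute_em {E : MonoidAlgebra k G} (hE : ∀ x, E * x = x * E) {V : Type v} [AddCommGroup V]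
    [Module k V] (r : MonoidAlgebra k G →ₐ[k] Module.End k V) (x : MonoidAlgebra k G) (v : V) :
    r x (r E v) = r E (r x v) := by
  rw [← Module.End.mul_apply, ← map_mul, ← hE, map_mul, Module.End.mul_apply]

theorem single_eq_rho {ρ : D.H0 →* Matrix (Fin f) (Fin f) k}
    (hρ : ∀ c : C1, ρ ⟨c, D.le_H0 c.2⟩ = D.U.F (MonoidAlgebra.single c 1)) (x : MonoidAlgebra k C1) :
    D.U.F x = ∑ c : C1, x.coeff c • ρ ⟨c, D.le_H0 c.2⟩ := by
  conv_lhs => rw [← sum_coeff_single' x, map_sum]
  simp only [map_smul, hρ]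

/-- A good vector in the induced module, fixed by the block idempotent. -/
theorem exists_good_ind {ρ : D.H0 →* Matrix (Fin f) (Fin f) k}
    (hρ : ∀ c : C1, ρ ⟨c, D.le_H0 c.2⟩ = D.U.F (MonoidAlgebra.single c 1))
    {E : MonoidAlgebra k G} (hE : ∀ x, E * x = x * E) (hEE : E * E = E)
    (hsum : ∑ h : D.H0, E.coeff (h : G) • ρ h = 1) :
    ∃ w : indSub ρ, IsHMap D (indRep ρ) ρ w ∧ w ∉ bad D (indRep ρ) ∧ indRep ρ E w = w := by
  set r := indRep ρ
  let ι : (Fin f → k) →ₗ[k] indSub ρ :=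
    { toFun := fun t => ⟨fun x => if hx : x ∈ D.H0 then ρ ⟨x, hx⟩ *ᵥ t else 0, fun h x => by
        by_cases hx : x ∈ D.H0
        · show dite _ _ _ = ρ h *ᵥ dite _ _ _
          rw [dif_pos hx, dif_pos (mul_mem h.2 hx), Matrix.mulVec_mulVec, ← map_mul]
          rfl
        · show dite _ _ _ = ρ h *ᵥ dite _ _ _
          rw [dif_neg hx, dif_neg (fun hh => hx ((Subgroup.mul_mem_cancel_left _ h.2).1 hh)),
            Matrix.mulVec_zero]⟩
      map_add' := fun a b => Subtype.ext (funext fun x => by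
        by_cases hx : x ∈ D.H0 <;> simp [hx, Matrix.mulVec_add])
      map_smul' := fun c a => Subtype.ext (funext fun x => by
        by_cases hx : x ∈ D.H0 <;> simp [hx, Matrix.mulVec_smul]) }
  have hιg : ∀ (h : D.H0) t, rg r (h : G) (ι t) = ι (ρ h *ᵥ t) := by
    intro h t
    rw [rg, sg, indRep_single]
    refine Subtype.ext (funext fun x => ?_)
    show (ι t : G → Fin f → k) (x * h) = _
    by_cases hx : x ∈ D.H0
    · show dite _ _ _ = dite _ _ _
      rw [dif_pos (mul_mem hx h.2), dif_pos hx, Matrix.mulVec_mulVec, ← map_mul]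
      rfl
    · show dite _ _ _ = dite _ _ _
      rw [dif_neg hx, dif_neg (fun hh => hx ((Subgroup.mul_mem_cancel_right _ h.2).1 hh))]
  have hι1 : ∀ (g : G) t, (ι t : G → Fin f → k) g =
      if hg : g ∈ D.H0 then ρ ⟨g, hg⟩ *ᵥ t else 0 := fun g t => rfl
  let α : (Fin f → k) →ₗ[k] indSub ρ := (r E).comp ι
  have hαg : ∀ (h : D.H0) t, α (ρ h *ᵥ t) = rg r (h : G) (α t) := fun h t => by
    show r E (ι _) = rg r (h : G) (r E (ι t))
    rw [← hιg, rg, commute_em hE]
  have hα : ∀ (x : MonoidAlgebra k C1) t, α (D.U.F x *ᵥ t) = rc C1 r x (α t) := by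
    intro x t
    conv_rhs => rw [← sum_coeff_single' x]
    rw [single_eq_rho D hρ x, Matrix.sum_mulVec, map_sum, map_sum, LinearMap.sum_apply]
    refine Finset.sum_congr rfl fun c _ => ?_
    rw [Matrix.smul_mulVec, map_smul, map_smul, LinearMap.smul_apply, rc_single, hαg]
  obtain ⟨hz, hη, hαΦ⟩ := D.U.eq_phi (rc C1 r) hα
  refine ⟨α (Pi.single D.U.o 1), ⟨hz, hη, fun h t => ?_⟩, ?_, ?_⟩
  · rw [← hαΦ]; exact hαg h t
  · rintro ⟨φ, hφ⟩
    have h1 : ∀ t, (α t : G → Fin f → k) 1 = t := by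
      intro t
      show ((r E (ι t) : indSub ρ) : G → Fin f → k) 1 = t
      rw [indRep_apply_one]
      simp only [hι1]
      conv_rhs => rw [← Matrix.one_mulVec t, ← hsum, Matrix.sum_mulVec]
      rw [← Finset.sum_subset (Finset.subset_univ (Finset.univ.filter (· ∈ D.H0)))
        (fun g _ hg => by rw [dif_neg (fun h => hg (Finset.mem_filter.2 ⟨Finset.mem_univ _, h⟩)),
          smul_zero])]
      refine (Finset.sum_bij' (fun (h : D.H0) _ => (h : G))
        (fun g hg => ⟨g, (Finset.mem_filter.1 hg).2⟩)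
        (fun h _ => Finset.mem_filter.2 ⟨Finset.mem_univ _, h.2⟩) (fun _ _ => Finset.mem_univ _)
        (fun _ _ => rfl) (fun _ _ => rfl) fun h _ => ?_).symm
      rw [dif_pos h.2, Matrix.smul_mulVec]
    have h2 := congrArg (fun ψ : indSub ρ => (ψ : G → Fin f → k) 1) hφ
    simp only [h1] at h2
    have h3 : ∀ y : MonoidAlgebra k C1, ((rc C1 r y φ : indSub ρ) : G → Fin f → k) 1 =
        D.U.F y *ᵥ (φ : G → Fin f → k) 1 := by
      intro y
      conv_lhs => rw [← sum_coeff_single' y]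
      rw [single_eq_rho D hρ y, Matrix.sum_mulVec]
      simp only [map_sum, map_smul, LinearMap.sum_apply, LinearMap.smul_apply, rc_single, rg, sg,
        indRep_single, r, AddSubmonoidClass.coe_finsetSum, Finset.sum_apply, SetLike.val_smul,
        Pi.smul_apply, Matrix.smul_mulVec]
      refine Finset.sum_congr rfl fun c _ => ?_
      congr 1
      show (φ : G → Fin f → k) (1 * (c : G)) = _
      rw [one_mul, ← φ.2 ⟨c, D.le_H0 c.2⟩ 1, mul_one]
    rw [h3, map_pow, D.U.F_η, zero_pow (by have := D.two_le; omega), Matrix.zero_mulVec] at h2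
    simpa using congrFun h2 D.U.o
  · show r E (r E _) = r E _
    rw [← Module.End.mul_apply, ← map_mul, hEE]

/-- A good vector of any module fixed by the block idempotent gives one in a simple module of the
block. -/
theorem exists_good_simple {ρ : D.H0 →* Matrix (Fin f) (Fin f) k}
    (hρ : ∀ c : C1, ρ ⟨c, D.le_H0 c.2⟩ = D.U.F (MonoidAlgebra.single c 1))
    {E : MonoidAlgebra k G} (hE : ∀ x, E * x = x * E) (hEE : E * E = E)
    {m : ℕ} {d : Fin m → ℕ}
    {q : MonoidAlgebra k G →ₐ[k] (Π i, Matrix (Fin (d i)) (Fin (d i)) k)}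
    (hd : ∀ i, 0 < d i) (hq : Function.Surjective q) {J : Submodule k (MonoidAlgebra k G)} {nJ : ℕ}
    (hJ : J ^ nJ = ⊥) (hker : ∀ x, q x = 0 → x ∈ J) (hJl : ∀ a, ∀ b ∈ J, a * b ∈ J)
    {S : Finset (Fin m)} (hS : ∀ i, i ∉ S → q E i = 0)
    {V : Type v} [AddCommGroup V] [Module k V] [FiniteDimensional k V]
    (r : MonoidAlgebra k G →ₐ[k] Module.End k V) {w : V} (hw : IsHMap D r ρ w)
    (hwb : w ∉ bad D r) (hwE : r E w = w) :
    ∃ j ∈ S, ∃ y : Fin (d j) → k,
      IsHMap D ((Matrix.toLinAlgEquiv' : Matrix (Fin (d j)) (Fin (d j)) k ≃ₐ[k] _).toAlgHom.comp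
          ((Pi.evalAlgHom k _ j).comp q)) ρ y ∧
        y ∉ bad D ((Matrix.toLinAlgEquiv' : Matrix (Fin (d j)) (Fin (d j)) k ≃ₐ[k] _).toAlgHom.comp
          ((Pi.evalAlgHom k _ j).comp q)) := by
  by_contra hcon
  push Not at hcon
  let rj : ∀ j, MonoidAlgebra k G →ₐ[k] Module.End k (Fin (d j) → k) := fun j =>
    (Matrix.toLinAlgEquiv' : Matrix (Fin (d j)) (Fin (d j)) k ≃ₐ[k] _).toAlgHom.comp
      ((Pi.evalAlgHom k _ j).comp q)
  have hrj : ∀ j x t, rj j x t = q x j *ᵥ t := fun j x t => by simp [rj]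
  set z := D.U.z
  set η := D.U.η
  let Φ := D.U.phi (rc C1 r)
  -- the filtration
  let Dn : ℕ → Submodule k V := fun n =>
    Submodule.span k {x | ∃ b ∈ J ^ n, ∃ v, r b v = x}
  have hJn : ∀ n, ∀ a, ∀ b ∈ J ^ (n + 1), a * b ∈ J ^ (n + 1) := by
    intro n a b hb
    rw [pow_succ'] at hb ⊢
    refine Submodule.mul_induction_on hb (fun x hx y hy => ?_) (fun x y hx hy => ?_)
    · rw [← mul_assoc]; exact Submodule.mul_mem_mul (hJl a x hx) hy
    · rw [mul_add]; exact add_mem hx hy
  have hD0 : ∀ v, v ∈ Dn 0 := fun v => Submodule.subset_span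
    ⟨1, by rw [pow_zero]; exact Submodule.one_le.1 le_rfl, v, by simp⟩
  have hDinv : ∀ n a v, v ∈ Dn n → r a v ∈ Dn n := by
    intro n a v hv
    cases n with
    | zero => exact hD0 _
    | succ n =>
      induction hv using Submodule.span_induction with
      | mem x hx =>
        obtain ⟨b, hb, u, rfl⟩ := hx
        exact Submodule.subset_span ⟨a * b, hJn n a b hb, u, by rw [map_mul, Module.End.mul_apply]⟩
      | zero => simp
      | add _ _ _ _ h1 h2 => rw [map_add]; exact add_mem h1 h2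
      | smul c _ _ h => rw [map_smul]; exact Submodule.smul_mem _ c h
  have hDJ : ∀ n, ∀ b ∈ J, ∀ v ∈ Dn n, r b v ∈ Dn (n + 1) := by
    intro n b hb v hv
    induction hv using Submodule.span_induction with
    | mem x hx =>
      obtain ⟨b', hb', u, rfl⟩ := hx
      refine Submodule.subset_span ⟨b * b', ?_, u, by rw [map_mul, Module.End.mul_apply]⟩
      rw [pow_succ']
      exact Submodule.mul_mem_mul hb hb'
    | zero => simp
    | add _ _ _ _ h1 h2 => rw [map_add]; exact add_mem h1 h2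
    | smul c _ _ h => rw [map_smul]; exact Submodule.smul_mem _ c h
  have hDrc : ∀ n (x : MonoidAlgebra k C1) v, v ∈ Dn n → rc C1 r x v ∈ Dn n :=
    fun n x v hv => hDinv n _ v hv
  -- matrix units
  choose E' hE' using fun (ja : Σ j : Fin m, Fin (d j) × Fin (d j)) =>
    hq (Pi.single ja.1 (Matrix.single ja.2.1 ja.2.2 1))
  let o : ∀ j, Fin (d j) := fun j => ⟨0, hd j⟩
  have hqE : ∀ j a b j', q (E' ⟨j, a, b⟩) j' =
      Pi.single (M := fun i => Matrix (Fin (d i)) (Fin (d i)) k) j (Matrix.single a b 1) j' :=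
    fun j a b j' => congrFun (hE' ⟨j, a, b⟩) j'
  -- the step
  have step : ∀ n, ∀ u : V, IsHMap D r ρ u → r E u = u → u ∈ Dn n →
      ∃ u2, IsHMap D r ρ u2 ∧ r E u2 = u2 ∧ u2 ∈ bad D r ∧ u - u2 ∈ Dn (n + 1) := by
    intro n u hu huE hun
    obtain ⟨huz, huη, huH⟩ := hu
    let π := (Dn (n + 1)).mkQ
    let W := (Dn n).map π
    let bW := Module.finBasis k W
    choose wv hwv hwv' using fun b => (bW b).2
    choose ψ hψ using fun b => LinearMap.exists_extend (bW.coord b)
    let Ψ : Fin (Module.finrank k W) → V →ₗ[k] k := fun b => (ψ b).comp π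
    have hΨ0 : ∀ b v, v ∈ Dn (n + 1) → Ψ b v = 0 := fun b v hv => by
      simp [Ψ, π, (Submodule.Quotient.mk_eq_zero _).2 hv]
    have hdec : ∀ v ∈ Dn n, v - ∑ b, Ψ b v • wv b ∈ Dn (n + 1) := by
      intro v hv
      rw [← Submodule.Quotient.mk_eq_zero]
      show π _ = 0
      rw [map_sub, map_sum, sub_eq_zero]
      have e : ∀ b, Ψ b v = bW.repr ⟨π v, v, hv, rfl⟩ b := fun b => by
        show ψ b (π v) = _
        have := LinearMap.congr_fun (hψ b) ⟨π v, v, hv, rfl⟩
        simpa using this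
      have h := congrArg Subtype.val (bW.sum_repr ⟨π v, v, hv, rfl⟩)
      simp only [AddSubmonoidClass.coe_finsetSum, SetLike.val_smul] at h
      rw [← h]
      refine Finset.sum_congr rfl fun b _ => ?_
      rw [map_smul, e, hwv' b]
    let Θ : ∀ j, Fin (Module.finrank k W) → V →ₗ[k] (Fin (d j) → k) := fun j b =>
      LinearMap.pi fun a => (Ψ b).comp (r (E' ⟨j, o j, a⟩))
    have hΘ : ∀ j b v a, Θ j b v a = Ψ b (r (E' ⟨j, o j, a⟩) v) := fun j b v a => rfl
    have hΘeq : ∀ j b x v, v ∈ Dn n → Θ j b (r x v) = q x j *ᵥ Θ j b v := by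
      intro j b x v hv
      funext a
      have hmem : E' ⟨j, o j, a⟩ * x - ∑ a', q x j a a' • E' ⟨j, o j, a'⟩ ∈ J := by
        refine hker _ (funext fun j' => ?_)
        simp only [map_sub, map_mul, map_sum, map_smul, Pi.sub_apply, Pi.mul_apply, Finset.sum_apply,
          Pi.smul_apply, hqE, Pi.zero_apply]
        by_cases hj : j' = j
        · subst hj
          simp only [Pi.single_eq_same, sub_eq_zero]
          ext i l
          simp only [Matrix.sum_apply, Matrix.smul_apply, Matrix.single_apply, smul_eq_mul, mul_ite,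
            mul_one, mul_zero, Matrix.mul_apply, ite_mul, one_mul, zero_mul]
          by_cases hi : o j' = i
          · simp [hi]
          · simp [hi]
        · simp [Pi.single_eq_of_ne hj]
      have h := hΨ0 b _ (hDJ n _ hmem v hv)
      rw [map_sub, LinearMap.sub_apply, map_sub, map_mul, Module.End.mul_apply, map_sum,
        LinearMap.sum_apply, map_sum, sub_eq_zero] at h
      rw [hΘ, h]
      simp [Matrix.mulVec, dotProduct, hΘ]
    have hy : ∀ j b, ∃ y, Θ j b u = q (em C1 (η ^ (D.U.N - 1))) j *ᵥ y := by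
      intro j b
      by_cases hj : j ∈ S
      · have hH : IsHMap D (rj j) ρ (Θ j b u) := by
          have hrc : ∀ x v, v ∈ Dn n → rc C1 (rj j) x (Θ j b v) = Θ j b (rc C1 r x v) :=
            fun x v hv => by rw [rc_apply, rc_apply, hrj, hΘeq j b _ v hv]
          refine ⟨by rw [hrc _ _ hun, huz], by rw [hrc _ _ hun, huη, map_zero], fun h t => ?_⟩
          have hΦΘ : ∀ t, D.U.phi (rc C1 (rj j)) (Θ j b u) t = Θ j b (Φ u t) := fun t => by
            simp only [Φ, Uniserial.phi_apply, map_sum, map_smul, hrc _ _ hun]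
          have hmem : Φ u t ∈ Dn n := by
            simp only [Φ, Uniserial.phi_apply]
            exact Submodule.sum_mem _ fun l _ => Submodule.smul_mem _ _ (hDrc _ _ _ hun)
          rw [hΦΘ, hΦΘ, huH]
          show Θ j b (r (sg k (h : G)) (Φ u t)) = rj j (sg k (h : G)) (Θ j b (Φ u t))
          rw [hrj, hΘeq j b _ _ hmem]
        obtain ⟨y, hy⟩ := hcon j hj _ hH
        refine ⟨y, ?_⟩
        rw [← hrj, ← rc_apply]
        exact hy.symm
      · refine ⟨0, ?_⟩
        rw [Matrix.mulVec_zero]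
        conv_lhs => rw [← huE, hΘeq j b E u hun, hS j hj, Matrix.zero_mulVec]
    choose y hy using hy
    let ι : ∀ j, Fin (Module.finrank k W) → (Fin (d j) → k) →ₗ[k] V := fun j b =>
      Fintype.linearCombination k fun a => r (E' ⟨j, a, o j⟩) (wv b)
    have hι : ∀ j b t, ι j b t = ∑ a, t a • r (E' ⟨j, a, o j⟩) (wv b) := fun j b t =>
      Fintype.linearCombination_apply k _ t
    have hιmem : ∀ j b t, ι j b t ∈ Dn n := fun j b t => by
      rw [hι]
      exact Submodule.sum_mem _ fun a _ => Submodule.smul_mem _ _ (hDinv _ _ _ (hwv b))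
    have hιeq : ∀ j b x t, ι j b (q x j *ᵥ t) - r x (ι j b t) ∈ Dn (n + 1) := by
      intro j b x t
      have hmem : ∀ a, (∑ a', q x j a' a • E' ⟨j, a', o j⟩) - x * E' ⟨j, a, o j⟩ ∈ J := by
        intro a
        refine hker _ (funext fun j' => ?_)
        simp only [map_sub, map_mul, map_sum, map_smul, Pi.sub_apply, Pi.mul_apply, Finset.sum_apply,
          Pi.smul_apply, hqE, Pi.zero_apply]
        by_cases hj : j' = j
        · subst hj
          simp only [Pi.single_eq_same, sub_eq_zero]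
          ext i l
          simp only [Matrix.sum_apply, Matrix.smul_apply, Matrix.single_apply, smul_eq_mul, mul_ite,
            mul_one, mul_zero, Matrix.mul_apply]
          by_cases hl : o j' = l
          · simp [hl]
          · simp [hl]
        · simp [Pi.single_eq_of_ne hj]
      have e : ι j b (q x j *ᵥ t) - r x (ι j b t) =
          ∑ a, t a • r ((∑ a', q x j a' a • E' ⟨j, a', o j⟩) - x * E' ⟨j, a, o j⟩) (wv b) := by
        simp only [hι, map_sub, map_sum, map_smul, LinearMap.sub_apply, LinearMap.sum_apply,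
          LinearMap.smul_apply, map_mul, Module.End.mul_apply, smul_sub, Finset.sum_sub_distrib,
          Finset.smul_sum, smul_smul]
        congr 1
        rw [Finset.sum_comm]
        simp only [Matrix.mulVec, dotProduct, Finset.sum_smul, mul_comm]
      rw [e]
      exact Submodule.sum_mem _ fun a _ => Submodule.smul_mem _ _ (hDJ n _ (hmem a) _ (hwv b))
    let Q := ∑ j, ∑ b, ι j b (y j b)
    have hQn : Q ∈ Dn n := Submodule.sum_mem _ fun j _ => Submodule.sum_mem _ fun b _ => hιmem _ _ _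
    have hrec : u - rc C1 r (η ^ (D.U.N - 1)) Q ∈ Dn (n + 1) := by
      have h1 : u - ∑ j, ∑ a, r (E' ⟨j, a, o j⟩) (r (E' ⟨j, o j, a⟩) u) ∈ Dn (n + 1) := by
        have hmem : (1 : MonoidAlgebra k G) - ∑ j, ∑ a, E' ⟨j, a, o j⟩ * E' ⟨j, o j, a⟩ ∈ J := by
          refine hker _ (funext fun j' => ?_)
          simp only [map_sub, map_one, map_sum, map_mul, Pi.sub_apply, Pi.one_apply,
            Finset.sum_apply, Pi.mul_apply, hqE, Pi.zero_apply]
          rw [Finset.sum_eq_single j']
          · simp [Matrix.single_mul_single_same, Matrix.sum_single_one]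
          · intro j _ hj
            refine Finset.sum_eq_zero fun a _ => ?_
            rw [Pi.single_eq_of_ne hj.symm, zero_mul]
          · simp
        have h := hDJ n _ hmem u hun
        simpa [map_sub, map_sum, map_mul, LinearMap.sum_apply] using h
      have h2 : ∀ j a, r (E' ⟨j, a, o j⟩) (r (E' ⟨j, o j, a⟩) u) -
          ∑ b, Θ j b u a • r (E' ⟨j, a, o j⟩) (wv b) ∈ Dn (n + 1) := by
        intro j a
        have := hDinv (n + 1) (E' ⟨j, a, o j⟩) _ (hdec _ (hDinv n (E' ⟨j, o j, a⟩) u hun))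
        simpa [map_sub, map_sum, map_smul, hΘ] using this
      have h3 : ∀ j b, ι j b (Θ j b u) - rc C1 r (η ^ (D.U.N - 1)) (ι j b (y j b)) ∈ Dn (n + 1) :=
        fun j b => by rw [hy j b, rc_apply]; exact hιeq j b _ _
      have e : u - rc C1 r (η ^ (D.U.N - 1)) Q =
          (u - ∑ j, ∑ a, r (E' ⟨j, a, o j⟩) (r (E' ⟨j, o j, a⟩) u)) +
          ((∑ j, ∑ a, (r (E' ⟨j, a, o j⟩) (r (E' ⟨j, o j, a⟩) u) -
            ∑ b, Θ j b u a • r (E' ⟨j, a, o j⟩) (wv b))) +
          ∑ j, ∑ b, (ι j b (Θ j b u) - rc C1 r (η ^ (D.U.N - 1)) (ι j b (y j b)))) := by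
        simp only [Q, map_sum, Finset.sum_sub_distrib, hι]
        simp only [Finset.sum_comm (t := (Finset.univ : Finset (Fin (Module.finrank k W))))
          (f := fun a b => Θ _ b u a • r (E' ⟨_, a, o _⟩) (wv b))]
        abel
      rw [e]
      exact add_mem h1 (add_mem
        (Submodule.sum_mem _ fun j _ => Submodule.sum_mem _ fun a _ => h2 j a)
        (Submodule.sum_mem _ fun j _ => Submodule.sum_mem _ fun b _ => h3 j b))
    set x1 := rc C1 r (η ^ (D.U.N - 1)) (r E (rc C1 r z Q)) with hx1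
    have hx1n : x1 ∈ Dn n := hDrc _ _ _ (hDinv _ _ _ (hDrc _ _ _ hQn))
    have hcomm : ∀ (x : MonoidAlgebra k C1) v, rc C1 r x (r E v) = r E (rc C1 r x v) :=
      fun x v => commute_em hE r _ v
    have hx1z : rc C1 r z x1 = x1 := by
      rw [hx1, ← Module.End.mul_apply (rc C1 r z), ← map_mul,
        ← ((show Commute η z from D.U.η_comm z).pow_left _).eq, map_mul, Module.End.mul_apply,
        hcomm z, ← Module.End.mul_apply (rc C1 r z), ← map_mul, D.U.hz]
    have hx1η : rc C1 r η x1 = 0 := by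
      rw [hx1, ← Module.End.mul_apply, ← map_mul, ← pow_succ',
        Nat.sub_add_cancel D.U.N_pos, D.U.η_pow, map_zero, LinearMap.zero_apply]
    have hx1E : r E x1 = x1 := by
      rw [hx1, ← hcomm, ← Module.End.mul_apply (r E), ← map_mul, hEE]
    have hx1b : x1 ∈ bad D r := ⟨_, rfl⟩
    have hd1 : u - x1 ∈ Dn (n + 1) := by
      have h := hDinv (n + 1) E _ (hDinv (n + 1) (em C1 z) _ hrec)
      have e : r E (r (em C1 z) (u - rc C1 r (η ^ (D.U.N - 1)) Q)) = u - x1 := by
        rw [← rc_apply, map_sub, map_sub, huz, huE]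
        congr 1
        rw [← Module.End.mul_apply (rc C1 r z), ← map_mul,
          ← ((show Commute η z from D.U.η_comm z).pow_left _).eq, map_mul, Module.End.mul_apply,
          ← hcomm]
      rwa [e] at h
    -- averaging
    let T : D.H0 → (Fin f → k) →ₗ[k] V := fun h =>
      (rg r (h : G)).comp ((Φ x1).comp (Matrix.mulVecLin (ρ h⁻¹)))
    have hT : ∀ (h : D.H0) t, T h t = rg r (h : G) (Φ x1 (ρ h⁻¹ *ᵥ t)) := fun h t => rfl
    have hΦc : ∀ (c : C1) t, Φ x1 (ρ ⟨c, D.le_H0 c.2⟩ *ᵥ t) = rg r (c : G) (Φ x1 t) := by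
      intro c t
      rw [hρ, ← rc_single]
      exact D.U.phi_equiv (rc C1 r) hx1z hx1η _ t
    have hTinv : ∀ (h : D.H0) (g : D.H0), (g : G) ∈ C1 → T (h * g) = T h := by
      intro h g hg
      refine LinearMap.ext fun t => ?_
      rw [hT, hT, Subgroup.coe_mul, rg_mul, Module.End.mul_apply]
      congr 1
      rw [_root_.mul_inv_rev, map_mul, ← Matrix.mulVec_mulVec,
        show g⁻¹ = (⟨((⟨(g : G), hg⟩ : C1)⁻¹ : C1), D.le_H0 (inv_mem hg)⟩ : D.H0) from rfl, hΦc,
        ← Module.End.mul_apply, ← rg_mul]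
      simp [rg_one]
    have hTout : ∀ h : D.H0, T (QuotientGroup.mk h : D.H0 ⧸ C1.subgroupOf D.H0).out = T h := by
      intro h
      obtain ⟨c, hc⟩ := QuotientGroup.mk_out_eq_mul (C1.subgroupOf D.H0) h
      rw [hc, hTinv _ _ (Subgroup.mem_subgroupOf.1 c.2)]
    set e : k := ((C1.relIndex D.H0 : ℕ) : k)
    let α : (Fin f → k) →ₗ[k] V := e⁻¹ • ∑ x : D.H0 ⧸ C1.subgroupOf D.H0, T x.out
    have hαH : ∀ (g : D.H0) t, α (ρ g *ᵥ t) = rg r (g : G) (α t) := by
      intro g t
      simp only [α, LinearMap.smul_apply, LinearMap.sum_apply, map_smul, map_sum]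
      congr 1
      refine (Fintype.sum_equiv (MulAction.toPerm g) _ _ fun x => ?_).symm
      have : (g • x).out = (QuotientGroup.mk (g * x.out) : D.H0 ⧸ C1.subgroupOf D.H0).out := by
        congr 1
        conv_lhs => rw [← x.out_eq]
        rfl
      rw [MulAction.toPerm_apply, this, hTout, hT, hT, Subgroup.coe_mul, rg_mul,
        Module.End.mul_apply, Matrix.mulVec_mulVec, ← map_mul, _root_.mul_inv_rev,
        inv_mul_cancel_right]
    have hαC : ∀ (x : MonoidAlgebra k C1) t, α (D.U.F x *ᵥ t) = rc C1 r x (α t) := by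
      intro x t
      conv_rhs => rw [← sum_coeff_single' x]
      rw [single_eq_rho D hρ x, Matrix.sum_mulVec, map_sum, map_sum, LinearMap.sum_apply]
      refine Finset.sum_congr rfl fun c _ => ?_
      rw [Matrix.smul_mulVec, map_smul, hαH, map_smul, LinearMap.smul_apply, rc_single]
      rfl
    obtain ⟨hz', hη', hαΦ⟩ := D.U.eq_phi (rc C1 r) hαC
    refine ⟨α (Pi.single D.U.o 1), ⟨hz', hη', fun h t => by rw [← hαΦ]; exact hαH h t⟩,
      ?_, ?_, ?_⟩
    · simp only [α, LinearMap.smul_apply, LinearMap.sum_apply, map_smul, map_sum, hT, rg]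
      congr 1
      refine Finset.sum_congr rfl fun x _ => ?_
      rw [← commute_em hE]
      congr 1
      simp only [Φ, Uniserial.phi_apply, map_sum, map_smul, ← hcomm, hx1E]
    · simp only [α, LinearMap.smul_apply, LinearMap.sum_apply, hT]
      refine Submodule.smul_mem _ _ (Submodule.sum_mem _ fun x _ => mem_layer_rg D r x.out.2 ?_)
      simp only [Φ, Uniserial.phi_apply]
      exact Submodule.sum_mem _ fun l _ => Submodule.smul_mem _ _ (mem_layer_rc D r hx1b _)
    · have hcard : (Fintype.card (D.H0 ⧸ C1.subgroupOf D.H0) : k) = e := by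
        show _ = ((C1.relIndex D.H0 : ℕ) : k)
        rw [Subgroup.relIndex, Subgroup.index, Nat.card_eq_fintype_card]
      have hu1 : ∀ x : D.H0 ⧸ C1.subgroupOf D.H0,
          u = rg r ((x.out : D.H0) : G) (Φ u (ρ x.out⁻¹ *ᵥ Pi.single D.U.o 1)) := fun x => by
        rw [← huH, Matrix.mulVec_mulVec, ← map_mul, mul_inv_cancel, map_one, Matrix.one_mulVec]
        exact (D.U.phi_o (rc C1 r) huz huη).symm
      have e1 : u - α (Pi.single D.U.o 1) = e⁻¹ • ∑ x : D.H0 ⧸ C1.subgroupOf D.H0,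
          rg r ((x.out : D.H0) : G) (Φ (u - x1) (ρ x.out⁻¹ *ᵥ Pi.single D.U.o 1)) := by
        simp only [Φ, Uniserial.phi_sub, LinearMap.sub_apply, map_sub, Finset.sum_sub_distrib,
          smul_sub]
        rw [← Finset.sum_congr rfl fun x _ => hu1 x, Finset.sum_const, Finset.card_univ,
          ← Nat.cast_smul_eq_nsmul k, hcard, smul_smul, inv_mul_cancel₀ D.e_ne, one_smul]
        simp only [α, LinearMap.smul_apply, LinearMap.sum_apply, hT]
        rfl
      rw [e1]
      refine Submodule.smul_mem _ _ (Submodule.sum_mem _ fun x _ => hDinv _ _ _ ?_)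
      simp only [Φ, Uniserial.phi_apply]
      exact Submodule.sum_mem _ fun l _ => Submodule.smul_mem _ _ (hDrc _ _ _ hd1)
  -- induction
  have htop : ∀ v ∈ Dn nJ, v = 0 := by
    intro v hv
    induction hv using Submodule.span_induction with
    | mem x hx =>
      obtain ⟨b, hb, u, rfl⟩ := hx
      rw [hJ, Submodule.mem_bot] at hb
      rw [hb, map_zero, LinearMap.zero_apply]
    | zero => rfl
    | add _ _ _ _ h1 h2 => rw [h1, h2, add_zero]
    | smul c _ _ h => rw [h, smul_zero]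
  have main : ∀ i, ∀ u : V, IsHMap D r ρ u → r E u = u → u ∈ Dn (nJ - i) → u ∈ bad D r := by
    intro i
    induction i with
    | zero =>
      intro u _ _ hu
      rw [htop u hu]
      exact zero_mem _
    | succ i ih =>
      intro u hu huE hun
      by_cases hi : nJ ≤ i
      · exact ih u hu huE (by rwa [show nJ - i = nJ - (i + 1) by omega])
      obtain ⟨u2, hu2, hu2E, hu2b, hu2n⟩ := step _ u hu huE hun
      have hd : IsHMap D r ρ (u - u2) := ⟨by rw [map_sub, hu.1, hu2.1],
        by rw [map_sub, hu.2.1, hu2.2.1, sub_zero],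
        fun h t => by
          simp only [Uniserial.phi_sub, LinearMap.sub_apply, map_sub, hu.2.2 h t, hu2.2.2 h t]⟩
      have := ih _ hd (by rw [map_sub, huE, hu2E])
        (by rwa [show nJ - i = nJ - (i + 1) + 1 by omega])
      simpa using add_mem this hu2b
  exact hwb (main nJ w hw hwE (by rw [Nat.sub_self]; exact hD0 w))

/-- There are at least as many simple modules in the block as extensions. -/
theorem inertia_le_card [IsAlgClosed k] {g0 : G} (hg0 : g0 ∈ D.H0) {e : ℕ} (he : (e : k) ≠ 0)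
    (hgen : ∀ h ∈ D.H0, ∃ n : ℤ, (g0 ^ n)⁻¹ * h ∈ C1) (hge : g0 ^ e ∈ C1)
    (hord : ∀ n : ℤ, g0 ^ n ∈ C1 → (e : ℤ) ∣ n)
    {E : MonoidAlgebra k G} (hE : ∀ x, E * x = x * E) (hEE : E * E = E)
    (hsum : ∀ ρ : D.H0 →* Matrix (Fin f) (Fin f) k,
      (∀ c : C1, ρ ⟨c, D.le_H0 c.2⟩ = D.U.F (MonoidAlgebra.single c 1)) →
        ∑ h : D.H0, E.coeff (h : G) • ρ h = 1)
    {m : ℕ} {d : Fin m → ℕ}
    {q : MonoidAlgebra k G →ₐ[k] (Π i, Matrix (Fin (d i)) (Fin (d i)) k)}
    (hd : ∀ i, 0 < d i) (hq : Function.Surjective q) {J : Submodule k (MonoidAlgebra k G)} {nJ : ℕ}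
    (hJ : J ^ nJ = ⊥) (hker : ∀ x, q x = 0 → x ∈ J) (hJl : ∀ a, ∀ b ∈ J, a * b ∈ J)
    {S : Finset (Fin m)} (hS : ∀ i, i ∉ S → q E i = 0) : e ≤ S.card := by
  obtain ⟨ρ, U0, U1, a, hU, ha, hρg, hρc⟩ := exists_family D hg0 he hgen hge hord
  have hex : ∀ i : Fin e, ∃ j ∈ S, ∃ y : Fin (d j) → k,
      IsHMap D ((Matrix.toLinAlgEquiv' : Matrix (Fin (d j)) (Fin (d j)) k ≃ₐ[k] _).toAlgHom.comp
          ((Pi.evalAlgHom k _ j).comp q)) (ρ i) y ∧
        y ∉ bad D ((Matrix.toLinAlgEquiv' : Matrix (Fin (d j)) (Fin (d j)) k ≃ₐ[k] _).toAlgHom.comp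
          ((Pi.evalAlgHom k _ j).comp q)) := fun i => by
    obtain ⟨w, hw, hwb, hwE⟩ := exists_good_ind D (hρc i) hE hEE (hsum _ (hρc i))
    exact exists_good_simple D (hρc i) hE hEE hd hq hJ hker hJl hS _ hw hwb hwE
  choose j hj y hy hyb using hex
  refine (Fintype.card_fin e).symm.trans_le ?_
  refine Finset.card_le_card_of_injOn j (fun i _ => hj i) fun i _ i' _ he' => ha ?_
  have hy' : ∀ j' (_ : j i = j'), ∃ y : Fin (d j') → k,
      IsHMap D ((Matrix.toLinAlgEquiv' : Matrix (Fin (d j')) (Fin (d j')) k ≃ₐ[k] _).toAlgHom.comp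
          ((Pi.evalAlgHom k _ j').comp q)) (ρ i) y ∧
        y ∉ bad D ((Matrix.toLinAlgEquiv' : Matrix (Fin (d j')) (Fin (d j')) k ≃ₐ[k] _).toAlgHom.comp
          ((Pi.evalAlgHom k _ j').comp q)) := fun j' h => h ▸ ⟨y i, hy i, hyb i⟩
  obtain ⟨y1, hy1, hy1b⟩ := hy' _ he'
  refine eq_of_two D _ (fun ψ hψ => ?_) hU (hρg i) (hρg i') hy1 (hy i') hy1b (hyb i')
  obtain ⟨X, hX⟩ : ∃ X, X =
      (Matrix.toLinAlgEquiv' : Matrix (Fin (d (j i'))) (Fin (d (j i'))) k ≃ₐ[k] _).symm ψ :=
    ⟨_, rfl⟩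
  have hall : ∀ x : MonoidAlgebra k G, Commute X (q x (j i')) := by
    intro x
    conv => rw [← sum_coeff_single' x, map_sum, Finset.sum_apply]
    refine Commute.sum_right _ _ _ fun g _ => ?_
    rw [map_smul, Pi.smul_apply]
    refine Commute.smul_right ?_ _
    have := (hψ g).map (Matrix.toLinAlgEquiv' : Matrix (Fin (d (j i'))) (Fin (d (j i'))) k ≃ₐ[k] _).symm
    simpa [hX, rg, sg] using this
  obtain ⟨c, hc⟩ : ∃ c : k, Matrix.scalar (Fin (d (j i'))) c = X :=
    Matrix.mem_range_scalar_of_commute_single fun a b _ => by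
      obtain ⟨x, hx⟩ := hq (Pi.single (j i') (Matrix.single a b 1))
      have := (hall x).symm
      rwa [hx, Pi.single_eq_same] at this
  refine ⟨c, ?_⟩
  apply (Matrix.toLinAlgEquiv' : Matrix (Fin (d (j i'))) (Fin (d (j i'))) k ≃ₐ[k] _).symm.injective
  rw [← hX, ← hc, map_smul, map_one, Matrix.scalar_apply, ← Matrix.smul_one_eq_diagonal]

end Cfsg.Agent.Stable
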